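import Groth.Agent.Sga3.H817.WeilProj
import Groth.Agent.Sga3B.DSPts

/-!
# Diagonalisable groups have locally projective coordinate rings
-/

set_option autoImplicit false
universe u
open CategoryTheory MonoidalCategory CartesianMonoidalCategory MonObj GrpObj AlgebraicGeometry Limits

namespace K544.DSProj

open Groth.Agent.Sga3.H817.WeilProj

theorem locProj_SpecMap {R B : Type u} [CommRing R] [CommRing B] [Algebra R B] [Module.Projective R B] :
    LocProj (Spec.map (CommRingCat.ofHom (algebraMap R B))) := by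
  intro s
  refine ⟨⊤, isAffineOpen_top _, trivial, fun x hx => ⟨⊤, isAffineOpen_top _, le_top, trivial, ?_⟩⟩
  let i1 : Algebra Γ(Spec (CommRingCat.of R), ⊤) Γ(Spec (CommRingCat.of B), ⊤) :=
    ((Spec.map (CommRingCat.ofHom (algebraMap R B))).appLE ⊤ ⊤ le_top).hom.toAlgebra
  let e₁ : R ≃+* Γ(Spec (CommRingCat.of R), ⊤) :=
    (Scheme.ΓSpecIso (CommRingCat.of R)).symm.commRingCatIsoToRingEquiv
  let e₂ : B ≃+* Γ(Spec (CommRingCat.of B), ⊤) :=
    (Scheme.ΓSpecIso (CommRingCat.of B)).symm.commRingCatIsoToRingEquiv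
  have hcomm : ∀ r : R, e₂ (algebraMap R B r) = algebraMap _ _ (e₁ r) := by
    intro r
    have h1 := congr($(Scheme.ΓSpecIso_inv_naturality (CommRingCat.ofHom (algebraMap R B))) r)
    have h2 := congr($((Spec.map (CommRingCat.ofHom (algebraMap R B))).app_eq_appLE (U := ⊤)) (e₁ r))
    exact h1.trans h2
  have h1 : RingHomInvPair (e₁ : R →+* Γ(Spec (CommRingCat.of R), ⊤)) e₁.symm := RingHomInvPair.of_ringEquiv e₁
  have h2 : RingHomInvPair (e₁.symm : Γ(Spec (CommRingCat.of R), ⊤) →+* R) e₁ := RingHomInvPair.of_ringEquiv e₁.symm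
  let e : B ≃ₛₗ[(e₁ : R →+* Γ(Spec (CommRingCat.of R), ⊤))] Γ(Spec (CommRingCat.of B), ⊤) :=
    { e₂.toAddEquiv with
      map_smul' := fun r b => by
        change e₂ (r • b) = (e₁ r) • e₂ b
        rw [Algebra.smul_def, Algebra.smul_def, map_mul, hcomm] }
  exact Module.Projective.of_equiv e

theorem locProj_DS (S : Scheme.{u}) (M : Type) [AddCommGroup M] : LocProj (Red.DS S M).hom := by
  have h1 : LocProj (Red.diag (ULift.{u} ℤ) M).hom :=
    locProj_SpecMap (R := ULift.{u} ℤ) (B := MonoidAlgebra (ULift.{u} ℤ) (Multiplicative M))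
  exact h1.of_isPullback (IsPullback.of_hasPullback (Red.diag (ULift.{u} ℤ) M).hom _)

end K544.DSProj
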