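import Groth.Agent.Redsub.H649.QuotCrit
import Groth.Agent.Sga3B.CentRep
import Groth.Agent.Sga3B.IsomDefs
import Groth.Agent.Sga3B.TorSmooth893
import Groth.Prelude.Def_AutFam

/-!
# The scheme of automorphisms preserving a subgroup

`A` represents the functor of automorphisms of `G`, `i : H ⟶ G` is a closed subgroup, smooth with geometrically
irreducible fibres, and the transforms of `H` by automorphisms are classified by a scheme `M` such that the classifying
map `q : G ⟶ M` of the conjugates of `H` is smooth.  Then the automorphisms preserving `H` are represented by a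
closed subscheme of `A` which is smooth over the base.
-/

set_option autoImplicit false
open CategoryTheory MonoidalCategory CartesianMonoidalCategory MonObj GrpObj AlgebraicGeometry Limits
universe u

namespace K544.AutNorm

open Groth.Agent.Sga3B Groth.Agent.Sga3B.BcPts Groth.Agent.Sga3B.MT Groth.Agent.Sga3B.IsoFam
  Groth.Agent.Sga3B.IsomDefs Groth.Agent.Redsub.H649.ConjPts Groth.Agent.Redsub.H649.QuotCrit
  Groth.Agent.Sga3B.InfConj Groth.Agent.Sga3B.InfConjFam

variable {S : Scheme.{u}} {G H : Over S} [GrpObj G] [GrpObj H]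

/-- points of the image of `H` under a family of endomorphisms -/
lemma pt_unfam_iff {S' : Scheme.{u}} {f : S' ⟶ S} (i : H ⟶ G) (φ : G ⊗ Over.mk f ⟶ G) {X : Over S}
    (a : X ⟶ Over.mk f) (γ : X ⟶ G) :
    Pt ((Over.pullback f).map i ≫ unfam (T := Over.mk f) φ) a.left γ.left ↔
      ∃ b : X ⟶ H, lift (b ≫ i) a ≫ φ = γ := by
  rw [← memAt_iff_pt, MemAt]
  have key : ∀ b : X ⟶ H, bcEquiv f (Over.mk a.left) H ((overIso a).hom ≫ b) ≫
      (Over.pullback f).map i ≫ unfam (T := Over.mk f) φ =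
      bcEquiv f (Over.mk a.left) G ((overIso a).hom ≫ lift (b ≫ i) a ≫ φ) := by
    intro b
    rw [← Category.assoc, ← bcEquiv_comp]
    refine (comp_unfam (T := Over.mk f) φ _).trans ?_
    congr 1
    change lift ((bcEquiv f _ G).symm (bcEquiv f _ G _)) _ ≫ φ = _
    rw [Equiv.symm_apply_apply, ← Category.assoc (overIso a).hom, comp_lift, Category.assoc]
    congr 2
  constructor
  · rintro ⟨x, hx⟩
    refine ⟨(overIso a).inv ≫ (bcEquiv f _ H).symm x, ?_⟩
    have h1 := key ((overIso a).inv ≫ (bcEquiv f _ H).symm x)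
    rw [Iso.hom_inv_id_assoc, Equiv.apply_symm_apply, hx] at h1
    have h2 := (bcEquiv f (Over.mk a.left) G).injective h1
    exact ((cancel_epi _).mp h2).symm
  · rintro ⟨b, rfl⟩
    exact ⟨_, key b⟩

/-- transforms of `H` by automorphisms are classified by `M` -/
def AutClassifies (i : H ⟶ G) (M : Over S) {U : Over M.left} (h : U ⟶ Red.bc M.hom G) : Prop :=
  ∀ (S' : Scheme.{u}) (f : S' ⟶ S) (e : Grp.mk (Red.bc f G) ≅ Grp.mk (Red.bc f G)),
    ∃! m : S' ⟶ M.left, m ≫ M.hom = f ∧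
      RedSub.SamePoints G f ((Over.pullback f).map i ≫ e.hom.hom.hom) M h m

section

variable {i : H ⟶ G} {M : Over S} {U : Over M.left} {h : U ⟶ Red.bc M.hom G}

/-- `m` classifies the image of `H` under the family `φ` -/
def Cls (i : H ⟶ G) (M : Over S) {U : Over M.left} (h : U ⟶ Red.bc M.hom G) {S' : Scheme.{u}} {f : S' ⟶ S}
    (φ : G ⊗ Over.mk f ⟶ G) (m : Over.mk f ⟶ M) : Prop :=
  ∀ (X : Over S) (a : X ⟶ Over.mk f) (γ : X ⟶ G), (∃ b : X ⟶ H, lift (b ≫ i) a ≫ φ = γ) ↔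
    Pt h (a ≫ m).left γ.left

lemma samePoints_iff_cls {S' : Scheme.{u}} {f : S' ⟶ S} (φ : G ⊗ Over.mk f ⟶ G) (m : Over.mk f ⟶ M) :
    RedSub.SamePoints G f ((Over.pullback f).map i ≫ unfam (T := Over.mk f) φ) M h m.left ↔ Cls i M h φ m := by
  rw [samePoints_iff]
  constructor
  · intro H1 X a γ
    rw [← pt_unfam_iff]
    exact H1 _ _ _
  · intro H1 X y γ
    by_cases w : γ ≫ G.hom = y ≫ f
    · let X' : Over S := Over.mk (y ≫ f)
      let a : X' ⟶ Over.mk f := Over.homMk y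
      let γ' : X' ⟶ G := Over.homMk γ w
      have h2 := H1 X' a γ'
      rw [← pt_unfam_iff] at h2
      exact h2
    · constructor
      · intro h2
        exact (w h2.w).elim
      · intro h2
        refine (w ?_).elim
        have h3 : m.left ≫ M.hom = f := Over.w m
        rw [h2.w, Category.assoc, h3]

lemma exists_cls (hcl : AutClassifies i M h) {S' : Scheme.{u}} {f : S' ⟶ S} (φ : G ⊗ Over.mk f ⟶ G)
    (hφ : AutFam.IsIsoFamily G G φ) : ∃! m : Over.mk f ⟶ M, Cls i M h φ m := by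
  obtain ⟨e, he⟩ := exists_iso_of_isIsoFamily (T := Over.mk f) hφ
  obtain ⟨m, ⟨h1, h2⟩, h3⟩ := hcl S' f e
  rw [he] at h2 h3
  refine ⟨Over.homMk m h1, (samePoints_iff_cls φ _).mp h2, fun m' hm' => ?_⟩
  ext1
  exact h3 m'.left ⟨Over.w m', (samePoints_iff_cls φ _).mpr hm'⟩

lemma Cls.comp {S' S'' : Scheme.{u}} {f : S' ⟶ S} {g : S'' ⟶ S} {φ : G ⊗ Over.mk f ⟶ G} {m : Over.mk f ⟶ M}
    (H1 : Cls i M h φ m) (r : Over.mk g ⟶ Over.mk f) : Cls i M h ((G ◁ r) ≫ φ) (r ≫ m) := by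
  intro X a γ
  rw [← Category.assoc a, ← H1 X (a ≫ r) γ]
  refine exists_congr fun b => ?_
  rw [← Category.assoc, lift_whiskerLeft]

/-- the conjugates of `H` -/
lemma cls_conj {q : G ⟶ M} (hq : RedSub.SamePoints G G.hom (RedSub.conjFamily i) M h q.left) {S' : Scheme.{u}}
    {f : S' ⟶ S} (g : Over.mk f ⟶ G) : Cls i M h (conjFam g (fst G (Over.mk f))) (g ≫ q) := by
  intro X a γ
  have h1 := inC_iff_of_samePoints hq (a ≫ g) γ
  have h2 : (a ≫ g ≫ q).left = (a ≫ g).left ≫ q.left := by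
    rw [← Over.comp_left, Category.assoc]
  rw [h2, ← h1, InC]
  refine exists_congr fun b => ?_
  rw [lift_conjFam, lift_fst]
  constructor
  · rintro rfl
    group
  · intro h3
    rw [h3]
    group

end

/-- the condition that the automorphism `a` preserves `H` -/
def Pres (i : H ⟶ G) {A : Over S} (υ : G ⊗ A ⟶ G) {X : Over S} (a : X ⟶ A) : Prop :=
  ∀ (X' : Over S) (x : X' ⟶ X) (h : X' ⟶ H),
    (∃ h' : X' ⟶ H, lift (h ≫ i) (x ≫ a) ≫ υ = h' ≫ i) ∧
    (∃ h' : X' ⟶ H, lift (h' ≫ i) (x ≫ a) ≫ υ = h ≫ i)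

/-- The automorphisms preserving `H` are represented by a closed subscheme. -/
theorem exists_closed (i : H ⟶ G) [IsClosedImmersion i.left] [Smooth H.hom] [GeometricallyIrreducible H.hom]
    [LocallyOfFiniteType G.hom] {A : Over S} (υ : G ⊗ A ⟶ G) (hυ : AutFam.IsIsoFamily G G υ) :
    ∃ (C : Over S) (c : C ⟶ A), IsClosedImmersion c.left ∧ LocallyOfFinitePresentation c.left ∧
      ∀ (X : Over S) (a : X ⟶ A), (∃ z : X ⟶ C, z ≫ c = a) ↔ Pres i υ a := by
  obtain ⟨-, ψ, hψ1, hψ2⟩ := hυ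
  obtain ⟨Z₁, z₁, hz₁, huniv₁, hfp₁⟩ := CentRep.exists_closed_map (X := A) (Q := H)
    (lift (snd A H ≫ i) (fst A H) ≫ υ) i
  obtain ⟨Z₂, z₂, hz₂, huniv₂, hfp₂⟩ := CentRep.exists_closed_map (X := A) (Q := H)
    (lift (snd A H ≫ i) (fst A H) ≫ ψ) i
  obtain ⟨Z, z, hz, huniv, hfp⟩ := CentRep.exists_inter z₁ z₂
  have hi : LocallyOfFinitePresentation i.left := by
    have : LocallyOfFinitePresentation (i.left ≫ G.hom) := by rw [Over.w]; infer_instance
    exact Groth.Agent.Ega43.FPOfComp.locallyOfFinitePresentation_of_comp i.left G.hom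
  refine ⟨Z, z, hz, hfp (hfp₁ hi) (hfp₂ hi), fun X a => ?_⟩
  rw [huniv, huniv₁, huniv₂, ← forall_and]
  refine forall_congr' fun X' => ?_
  rw [← forall_and]
  refine forall_congr' fun x => ?_
  rw [← forall_and]
  refine forall_congr' fun b => ?_
  have e1 : ∀ θ : G ⊗ A ⟶ G, lift (x ≫ a) b ≫ lift (snd A H ≫ i) (fst A H) ≫ θ = lift (b ≫ i) (x ≫ a) ≫ θ := by
    intro θ
    rw [← Category.assoc, comp_lift, lift_fst, lift_snd_assoc]
  rw [e1, e1]
  refine and_congr (exists_congr fun _ => eq_comm) ?_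
  constructor
  · rintro ⟨b', hb'⟩
    exact ⟨b', by rw [hb', hψ2]⟩
  · rintro ⟨b', hb'⟩
    exact ⟨b', by rw [← hb', hψ1]⟩

/-- `a` preserves `H` iff the image of `H` is classified by the same point as `H`. -/
lemma pres_iff {i : H ⟶ G} {M : Over S} {U : Over M.left} {h : U ⟶ Red.bc M.hom G} {A : Over S} {υ : G ⊗ A ⟶ G}
    {S' : Scheme.{u}} {f : S' ⟶ S} (a : Over.mk f ⟶ A) {m m' : Over.mk f ⟶ M}
    (hm : Cls i M h ((G ◁ a) ≫ υ) m) (hm' : Cls i M h (fst G (Over.mk f)) m') :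
    (m = m' → Pres i υ a) ∧ (AutClassifies i M h → AutFam.IsIsoFamily G G υ → Pres i υ a → m = m') := by
  constructor
  · rintro rfl X x b
    have h1 : ∀ (γ : X ⟶ G), (∃ b : X ⟶ H, lift (b ≫ i) (x ≫ a) ≫ υ = γ) ↔ ∃ b : X ⟶ H, b ≫ i = γ := by
      intro γ
      have h2 := (hm X x γ).trans (hm' X x γ).symm
      refine (exists_congr fun b => ?_).trans (h2.trans (exists_congr fun b => ?_))
      · rw [← Category.assoc, lift_whiskerLeft]
      · rw [lift_fst]
    refine ⟨?_, ?_⟩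
    · obtain ⟨b', hb'⟩ := (h1 (lift (b ≫ i) (x ≫ a) ≫ υ)).mp ⟨b, rfl⟩
      exact ⟨b', hb'.symm⟩
    · exact (h1 (b ≫ i)).mpr ⟨b, rfl⟩
  · intro hcl hυ hp
    refine (exists_cls hcl ((G ◁ a) ≫ υ) (isIsoFamily_pull hυ a)).unique hm ?_
    intro X x γ
    rw [← hm' X x γ]
    constructor
    · rintro ⟨b, rfl⟩
      obtain ⟨b', hb'⟩ := (hp X x b).1
      refine ⟨b', ?_⟩
      rw [lift_fst, ← Category.assoc, lift_whiskerLeft, hb']
    · rintro ⟨b, rfl⟩
      obtain ⟨b', hb'⟩ := (hp X x b).2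
      refine ⟨b', ?_⟩
      rw [lift_fst, ← Category.assoc, lift_whiskerLeft, hb']

/-- `H` itself is classified by the image of the unit. -/
lemma cls_fst {i : H ⟶ G} {M : Over S} {U : Over M.left} {h : U ⟶ Red.bc M.hom G} {q : G ⟶ M}
    (hq : RedSub.SamePoints G G.hom (RedSub.conjFamily i) M h q.left) {S' : Scheme.{u}}
    (f : S' ⟶ S) : Cls i M h (fst G (Over.mk f)) ((1 : Over.mk f ⟶ G) ≫ q) := by
  have h1 := cls_conj hq (1 : Over.mk f ⟶ G)
  have h2 : conjFam (1 : Over.mk f ⟶ G) (fst G (Over.mk f)) = fst G (Over.mk f) := by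
    rw [conjFam, MonObj.comp_one]
    group
  rwa [h2] at h1

/-- **The scheme of automorphisms preserving `H`** is closed in `A` and smooth over `S`. -/
theorem main (i : H ⟶ G) [IsClosedImmersion i.left] [Smooth H.hom] [GeometricallyIrreducible H.hom]
    [LocallyOfFiniteType G.hom] {A : Over S} (υ : G ⊗ A ⟶ G) (hA : AutFam.RepresentsIsom G G A υ) [Smooth A.hom]
    {M : Over S} {U : Over M.left} {h : U ⟶ Red.bc M.hom G} (hcl : AutClassifies i M h) (q : G ⟶ M)
    (hq : RedSub.SamePoints G G.hom (RedSub.conjFamily i) M h q.left) [Smooth q.left] :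
    ∃ (C : Over S) (c : C ⟶ A), IsClosedImmersion c.left ∧ Smooth C.hom ∧
      ∀ (X : Over S) (a : X ⟶ A), (∃ z : X ⟶ C, z ≫ c = a) ↔ Pres i υ a := by
  obtain ⟨C, c, hc1, hc2, hc3⟩ := exists_closed i υ hA.1
  refine ⟨C, c, hc1, ?_, hc3⟩
  have hCf : LocallyOfFinitePresentation C.hom := by
    rw [← Over.w c]
    infer_instance
  refine TorSmooth893.smooth_of_lift C fun R _ I hI x α => ?_
  obtain ⟨a, ha⟩ := TorSmooth893.exists_lift_of_smooth A R I hI x (α ≫ c)
  obtain ⟨m, hm, -⟩ := exists_cls hcl ((G ◁ a) ≫ υ) (isIsoFamily_pull hA.1 a)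
  -- the reductions
  let r := redMap x I
  have hm₀ := hm.comp r
  rw [← Category.assoc, ← MonoidalCategory.whiskerLeft_comp, ha] at hm₀
  have h1 : r ≫ m = (1 : _ ⟶ G) ≫ q := (pres_iff (α ≫ c) hm₀ (cls_fst hq _)).2 hcl hA.1 ((hc3 _ _).mp ⟨α, rfl⟩)
  -- lift the unit
  have hqs : Smooth (Over.mk q.left : Over M.left).hom := ‹Smooth q.left›
  obtain ⟨g', hg'⟩ := TorSmooth893.exists_lift_of_smooth (Over.mk q.left : Over M.left) R I hI m.left
    (Over.homMk (1 : Over.mk (Spec.map (CommRingCat.ofHom (Ideal.Quotient.mk I)) ≫ x) ⟶ G).left (by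
      have h2 := congrArg CommaMorphism.left h1
      exact h2.symm))
  have hgq : g'.left ≫ q.left = m.left := Over.w g'
  let g : Over.mk x ⟶ G := Over.homMk g'.left (by
    have h2 : q.left ≫ M.hom = G.hom := Over.w q
    have h3 : m.left ≫ M.hom = x := Over.w m
    change g'.left ≫ G.hom = x
    rw [← h2, ← Category.assoc, hgq, h3])
  have hg1 : g ≫ q = m := by
    ext1
    exact hgq
  have hg2 : r ≫ g = 1 := by
    have h4 := congrArg CommaMorphism.left hg'
    ext1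
    exact h4
  -- the corrected automorphism
  obtain ⟨a', ha', -⟩ := hA.2 (Over.mk x) (conjFam g⁻¹ ((G ◁ a) ≫ υ))
    (isIsoFamily_conjFam _ (isIsoFamily_pull hA.1 a))
  have h3 : r ≫ a' = α ≫ c := by
    have huniq := hA.2 _ ((G ◁ (α ≫ c)) ≫ υ) (isIsoFamily_pull hA.1 _)
    refine huniq.unique ?_ rfl
    simp only [MonoidalCategory.whiskerLeft_comp, Category.assoc]
    rw [ha']
    apply fam_ext
    intro X t y
    have h4 : (t ≫ r) ≫ g⁻¹ = 1 := by
      rw [GrpObj.comp_inv, Category.assoc, hg2, MonObj.comp_one, _root_.inv_one]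
    have h5 : r ≫ a = α ≫ c := ha
    rw [← Category.assoc, lift_whiskerLeft, lift_conjFam, h4, _root_.one_mul, _root_.inv_one, _root_.mul_one,
      ← Category.assoc, lift_whiskerLeft, Category.assoc, h5, ← MonoidalCategory.whiskerLeft_comp_assoc,
      ← Category.assoc (lift y t), lift_whiskerLeft]
  have h4 : Pres i υ a' := by
    intro X t b
    have h5 : ∀ (y : X ⟶ G), lift y (t ≫ a') ≫ υ = (t ≫ g)⁻¹ * (lift y t ≫ (G ◁ a) ≫ υ) * (t ≫ g) := by
      intro y
      have h6 := congrArg (fun k => lift y t ≫ k) ha'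
      rw [lift_conjFam, ← Category.assoc, lift_whiskerLeft, GrpObj.comp_inv, _root_.inv_inv] at h6
      exact h6
    have h6 := cls_conj hq g
    rw [hg1] at h6
    have h7 : ∀ γ : X ⟶ G, (∃ b : X ⟶ H, lift (b ≫ i) t ≫ (G ◁ a) ≫ υ = γ) ↔
        ∃ b : X ⟶ H, (t ≫ g) * (b ≫ i) * (t ≫ g)⁻¹ = γ := by
      intro γ
      rw [hm X t γ, ← h6 X t γ]
      refine exists_congr fun b => ?_
      rw [lift_conjFam, lift_fst]
    constructor
    · obtain ⟨b', hb'⟩ := (h7 _).mp ⟨b, rfl⟩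
      refine ⟨b', ?_⟩
      rw [h5, ← hb']
      group
    · obtain ⟨b', hb'⟩ := (h7 _).mpr ⟨b, rfl⟩
      refine ⟨b', ?_⟩
      rw [h5, hb']
      group
  obtain ⟨z, hz⟩ := (hc3 _ a').mpr h4
  refine ⟨z, ?_⟩
  have hmono : Mono c := Over.mono_of_mono_left c
  rw [← cancel_mono c, Category.assoc, hz]
  exact h3

end K544.AutNorm
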