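import Groth.Agent.AutFam.K544.RootFold
import Groth.Agent.RedSub.H633.CellOpenImm
import Groth.Agent.RedSub.H636.CellPts

/-!
# Families on the big cell

* `cellFam f u`: the family of morphisms on the big cell obtained from families `f : T ⊗ Y ⟶ H` and
  `u a : 𝔾_a ⊗ Y ⟶ H`.
* `restrict`: a family of homomorphisms extending `cellFam f u` restricts to `f` and to the `u a`.
-/

set_option autoImplicit false
open CategoryTheory MonoidalCategory CartesianMonoidalCategory MonObj GrpObj AlgebraicGeometry Limits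
universe u

namespace K544.CellFam

open K544.WeilExt K544.RootClosed K544.RootFold Groth.Agent.RedSub.H636.CellPts

variable {S : Scheme.{u}} {H : Over S} [GrpObj H]

/-- ordered product of families -/
noncomputable def powFam (Z Y : Over S) : (n : ℕ) → (Fin n → (Z ⊗ Y ⟶ H)) → (RedSub.pow Z n ⊗ Y ⟶ H)
  | 0, _ => 1
  | n + 1, g => (lift (fst (Z ⊗ RedSub.pow Z n) Y ≫ fst Z (RedSub.pow Z n)) (snd (Z ⊗ RedSub.pow Z n) Y) ≫ g 0) *
      (lift (fst (Z ⊗ RedSub.pow Z n) Y ≫ snd Z (RedSub.pow Z n)) (snd (Z ⊗ RedSub.pow Z n) Y) ≫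
        powFam Z Y n (fun k => g k.succ))

lemma powPt_powFam {Z Y X : Over S} (s : X ⟶ Y) : ∀ (n : ℕ) (g : Fin n → (Z ⊗ Y ⟶ H)) (x : Fin n → (X ⟶ Z)),
    lift (powPt n x) s ≫ powFam Z Y n g = (List.ofFn fun k => lift (x k) s ≫ g k).prod
  | 0, g, x => by
    rw [List.ofFn_zero, List.prod_nil]
    exact MonObj.comp_one _
  | n + 1, g, x => by
    rw [List.ofFn_succ, List.prod_cons, ← powPt_powFam s n (fun k => g k.succ) (fun k => x k.succ), powPt_succ]
    change lift (lift (x 0) (powPt n fun k => x k.succ)) s ≫ (_ * _) = _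
    rw [MonObj.comp_mul, ← Category.assoc, comp_lift, ← Category.assoc, lift_fst, lift_fst, lift_snd,
      ← Category.assoc, comp_lift, ← Category.assoc (lift _ s), lift_fst, lift_snd, lift_snd]

variable {G : Over S} [GrpObj G] (D : Red.SplitRed G) {n m : ℕ} (eneg : Fin n → D.idx) (epos : Fin m → D.idx)

/-- the big cell -/
noncomputable abbrev Om (D : Red.SplitRed G) (n m : ℕ) : Over S :=
  RedSub.pow (Red.Ga S) n ⊗ (D.T ⊗ RedSub.pow (Red.Ga S) m)

/-- the family on the big cell -/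
noncomputable def cellFam {Y : Over S} (f : D.T ⊗ Y ⟶ H) (u : D.idx → (Red.Ga S ⊗ Y ⟶ H)) : Om D n m ⊗ Y ⟶ H :=
  (lift (fst (Om D n m) Y ≫ fst _ _) (snd (Om D n m) Y) ≫ powFam (Red.Ga S) Y n (fun k => u (eneg k))) *
    ((lift (fst (Om D n m) Y ≫ snd _ _ ≫ fst _ _) (snd (Om D n m) Y) ≫ f) *
      (lift (fst (Om D n m) Y ≫ snd _ _ ≫ snd _ _) (snd (Om D n m) Y) ≫
        powFam (Red.Ga S) Y m (fun k => u (epos k))))

lemma cellFam_pts {Y X : Over S} (f : D.T ⊗ Y ⟶ H) (u : D.idx → (Red.Ga S ⊗ Y ⟶ H)) (y : Fin n → (X ⟶ Red.Ga S))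
    (t : X ⟶ D.T) (x : Fin m → (X ⟶ Red.Ga S)) (s : X ⟶ Y) :
    lift (lift (powPt n y) (lift t (powPt m x))) s ≫ cellFam D eneg epos f u =
      (List.ofFn fun k => lift (y k) s ≫ u (eneg k)).prod *
        ((lift t s ≫ f) * (List.ofFn fun k => lift (x k) s ≫ u (epos k)).prod) := by
  rw [← powPt_powFam s n, ← powPt_powFam s m]
  unfold cellFam
  rw [MonObj.comp_mul, MonObj.comp_mul]
  congr 1
  · rw [← Category.assoc, comp_lift, ← Category.assoc, lift_fst, lift_fst, lift_snd]
  · congr 1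
    · rw [← Category.assoc, comp_lift, ← Category.assoc, lift_fst, lift_snd, ← Category.assoc, lift_snd, lift_fst]
    · rw [← Category.assoc, comp_lift, ← Category.assoc, lift_fst, lift_snd, ← Category.assoc, lift_snd, lift_snd]

lemma prod_ofFn_ite {M : Type*} [Monoid M] : ∀ (n : ℕ) (k₀ : Fin n) (h : M),
    (List.ofFn fun k => if k = k₀ then h else 1).prod = h
  | 0, k₀, _ => k₀.elim0
  | n + 1, k₀, h => by
    rw [List.ofFn_succ, List.prod_cons]
    refine Fin.cases ?_ (fun k₁ => ?_) k₀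
    · rw [if_pos rfl]
      have h1 : (List.ofFn fun k : Fin n => if k.succ = 0 then h else 1).prod = 1 := by
        apply List.prod_eq_one
        intro x hx
        rw [List.mem_ofFn] at hx
        obtain ⟨k, rfl⟩ := hx
        rw [if_neg (Fin.succ_ne_zero k)]
      rw [h1, _root_.mul_one]
    · rw [if_neg (Fin.succ_ne_zero k₁).symm, _root_.one_mul]
      simp only [Fin.succ_inj]
      exact prod_ofFn_ite n k₁ h

lemma prod_ofFn_one {M : Type*} [Monoid M] (n : ℕ) (f : Fin n → M) (h : ∀ k, f k = 1) : (List.ofFn f).prod = 1 := by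
  apply List.prod_eq_one
  intro x hx
  rw [List.mem_ofFn] at hx
  obtain ⟨k, rfl⟩ := hx
  exact h k

/-- the restriction of a family of homomorphisms to the big cell -/
lemma cellMap_whisker {Y : Over S} {φ : G ⊗ Y ⟶ H} (hφ : AutFam.IsHomFamily G H φ) :
    (RedSub.cellMap D eneg epos ▷ Y) ≫ φ =
      cellFam D eneg epos ((D.i ▷ Y) ≫ φ) (fun a => (D.u a ▷ Y) ≫ φ) := by
  refine fam_ext fun X z s => ?_
  obtain ⟨y, t, x, rfl⟩ := exists_cell_coords D z
  have e : ∀ {P : Over S} (c : P ⟶ G) (p : X ⟶ P), lift p s ≫ (c ▷ Y) ≫ φ = lift (p ≫ c) s ≫ φ := by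
    intro P c p
    rw [← Category.assoc, lift_whiskerRight]
  have hl : ∀ (l : List (X ⟶ G)), lift l.prod s ≫ φ = (l.map fun g => lift g s ≫ φ).prod := by
    intro l
    induction l with
    | nil => exact hom_one hφ s
    | cons g l ih => rw [List.prod_cons, hφ, ih, List.map_cons, List.prod_cons]
  rw [cellFam_pts, e, cellMap_pts, hφ, hφ, hl, hl, List.map_ofFn, List.map_ofFn, e]
  simp only [e]
  rfl

/-- pulling back the family on the big cell -/
lemma cellFam_pull {Y Y' : Over S} (f : D.T ⊗ Y ⟶ H) (u : D.idx → (Red.Ga S ⊗ Y ⟶ H)) (c : Y' ⟶ Y) :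
    (Om D n m ◁ c) ≫ cellFam D eneg epos f u =
      cellFam D eneg epos ((D.T ◁ c) ≫ f) (fun a => (Red.Ga S ◁ c) ≫ u a) := by
  refine fam_ext fun X z s => ?_
  obtain ⟨y, t, x, rfl⟩ := exists_cell_coords D z
  have e : ∀ {P : Over S} (φ : P ⊗ Y ⟶ H) (p : X ⟶ P), lift p s ≫ (P ◁ c) ≫ φ = lift p (s ≫ c) ≫ φ := by
    intro P φ p
    rw [← Category.assoc, lift_whiskerLeft]
  rw [e, cellFam_pts, cellFam_pts, e]
  simp only [e]

variable {D eneg epos} in
/-- A family of homomorphisms extending the family on the big cell restricts to the given families. -/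
theorem restrict {b : D.P.Base} (hneg : RedSub.Enumerates (RedSub.negRoots D.P b) eneg)
    (hpos : RedSub.Enumerates (RedSub.posRoots D.P b) epos) {Y : Over S} {f : D.T ⊗ Y ⟶ H}
    {u : D.idx → (Red.Ga S ⊗ Y ⟶ H)} (hf : AutFam.IsHomFamily D.T H f)
    (hu : ∀ a, AutFam.IsHomFamily (Red.Ga S) H (u a)) {ψ : G ⊗ Y ⟶ H}
    (h : (RedSub.cellMap D eneg epos ▷ Y) ≫ ψ = cellFam D eneg epos f u) :
    (D.i ▷ Y) ≫ ψ = f ∧ ∀ a, (D.u a ▷ Y) ≫ ψ = u a := by
  classical
  have key : ∀ {X : Over S} (y : Fin n → (X ⟶ Red.Ga S)) (t : X ⟶ D.T) (x : Fin m → (X ⟶ Red.Ga S)) (s : X ⟶ Y),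
      lift ((List.ofFn fun k => y k ≫ D.u (eneg k)).prod *
        ((t ≫ D.i) * (List.ofFn fun k => x k ≫ D.u (epos k)).prod)) s ≫ ψ =
      (List.ofFn fun k => lift (y k) s ≫ u (eneg k)).prod *
        ((lift t s ≫ f) * (List.ofFn fun k => lift (x k) s ≫ u (epos k)).prod) := by
    intro X y t x s
    rw [← cellMap_pts, ← cellFam_pts, ← h, ← Category.assoc, lift_whiskerRight]
  have hui : ∀ a, IsMonHom (D.u a) := fun a => (D.rootHom a).1
  have hDi : IsMonHom D.i := D.maximalTorus.1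
  have u1 : ∀ (X : Over S) (a : D.idx), (1 : X ⟶ Red.Ga S) ≫ D.u a = 1 := fun X a => by
    have := hui a
    exact MonObj.one_comp (D.u a)
  have i1 : ∀ (X : Over S), (1 : X ⟶ D.T) ≫ D.i = 1 := fun X => MonObj.one_comp D.i
  refine ⟨fam_ext fun X t s => ?_, fun a => fam_ext fun X x s => ?_⟩
  · have h1 := key (fun _ => 1) t (fun _ => 1) s
    rw [prod_ofFn_one n _ (fun k => u1 X _), prod_ofFn_one m _ (fun k => u1 X _),
      prod_ofFn_one n _ (fun k => hom_one (hu _) s), prod_ofFn_one m _ (fun k => hom_one (hu _) s)] at h1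
    simp only [_root_.mul_one, _root_.one_mul] at h1
    rw [← Category.assoc, lift_whiskerRight, h1]
  · rw [← Category.assoc, lift_whiskerRight]
    rcases b.root_mem_or_neg_mem a with ha | ha
    · have ha' : a ∈ RedSub.posRoots D.P b := ha
      rw [← hpos.2] at ha'
      obtain ⟨k₀, rfl⟩ := ha'
      have h1 := key (fun _ => 1) 1 (fun k => if k = k₀ then x else 1) s
      have e1 : ∀ k, (if k = k₀ then x else 1) ≫ D.u (epos k) = if k = k₀ then x ≫ D.u (epos k₀) else 1 := by
        intro k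
        split_ifs with hk
        · rw [hk]
        · exact u1 X _
      have e2 : ∀ k, lift (if k = k₀ then x else 1) s ≫ u (epos k) =
          if k = k₀ then lift x s ≫ u (epos k₀) else 1 := by
        intro k
        split_ifs with hk
        · rw [hk]
        · exact hom_one (hu _) s
      simp only [e1, e2, prod_ofFn_ite] at h1
      rw [prod_ofFn_one n _ (fun k => u1 X _), prod_ofFn_one n _ (fun k => hom_one (hu _) s), i1,
        hom_one hf] at h1
      simpa only [_root_.mul_one, _root_.one_mul] using h1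
    · have ha' : a ∈ RedSub.negRoots D.P b := ha
      rw [← hneg.2] at ha'
      obtain ⟨k₀, rfl⟩ := ha'
      have h1 := key (fun k => if k = k₀ then x else 1) 1 (fun _ => 1) s
      have e1 : ∀ k, (if k = k₀ then x else 1) ≫ D.u (eneg k) = if k = k₀ then x ≫ D.u (eneg k₀) else 1 := by
        intro k
        split_ifs with hk
        · rw [hk]
        · exact u1 X _
      have e2 : ∀ k, lift (if k = k₀ then x else 1) s ≫ u (eneg k) =
          if k = k₀ then lift x s ≫ u (eneg k₀) else 1 := by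
        intro k
        split_ifs with hk
        · rw [hk]
        · exact hom_one (hu _) s
      simp only [e1, e2, prod_ofFn_ite] at h1
      rw [prod_ofFn_one m _ (fun k => u1 X _), prod_ofFn_one m _ (fun k => hom_one (hu _) s), i1,
        hom_one hf] at h1
      simpa only [_root_.mul_one, _root_.one_mul] using h1

end K544.CellFam
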