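import Mathlib.AlgebraicGeometry.Geometrically.Irreducible
import Mathlib.AlgebraicGeometry.Morphisms.Smooth
import Mathlib.AlgebraicGeometry.Morphisms.Flat
import Mathlib.AlgebraicGeometry.Morphisms.FlatDescent
import Mathlib.CategoryTheory.Monoidal.Cartesian.Over
import Mathlib.CategoryTheory.Monoidal.Cartesian.Grp

/-!
# Generic points of a group scheme with irreducible fibres

`G` is a smooth group scheme with geometrically irreducible fibres and `j : O ⟶ G` an open subscheme meeting all the
fibres.

* `exists_generic`: for finitely many points `g i` of `G` there is locally for the smooth topology a point `z` with all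
  `z * g i` in `O`.
* `exists_two`: every point of `G` is locally for the smooth topology a product of two points of `O`.
-/

set_option autoImplicit false
open CategoryTheory MonoidalCategory CartesianMonoidalCategory MonObj GrpObj AlgebraicGeometry Limits
universe u

namespace K544.GenPt

variable {S : Scheme.{u}}

/-- A point of `G` whose image lies in the open subscheme `O` is a point of `O`. -/
theorem exists_factor {O G V : Over S} (j : O ⟶ G) [IsOpenImmersion j.left] (x : V ⟶ G)
    (h : Set.range x.left ⊆ Set.range j.left) : ∃ w : V ⟶ O, w ≫ j = x := by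
  refine ⟨Over.homMk (IsOpenImmersion.lift j.left x.left h) ?_, ?_⟩
  · rw [← Over.w j, ← Category.assoc, IsOpenImmersion.lift_fac, Over.w]
  · ext1
    exact IsOpenImmersion.lift_fac _ _ _

lemma mono_of_open {O G : Over S} (j : O ⟶ G) [IsOpenImmersion j.left] : Mono j :=
  Over.mono_of_mono_left j

lemma epi_of_cover {V Y : Over S} (v : V ⟶ Y) (h1 : Smooth v.left) (h2 : Surjective v.left) : Epi v := by
  have : Flat v.left := inferInstance
  have : Epi v.left := Flat.epi_of_flat_of_surjective _
  exact (Over.forget S).epi_of_epi_map this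

/-- Pull back a cover. -/
lemma exists_pullback {V Y Y' : Over S} (v : V ⟶ Y) (h1 : Smooth v.left) (h2 : Surjective v.left) (g : Y' ⟶ Y) :
    ∃ (V' : Over S) (p : V' ⟶ Y') (q : V' ⟶ V), Smooth p.left ∧ Surjective p.left ∧ p ≫ g = q ≫ v := by
  let R' : Over S := Over.mk (pullback.fst g.left v.left ≫ Y'.hom)
  refine ⟨R', Over.homMk (pullback.fst g.left v.left) rfl, Over.homMk (pullback.snd g.left v.left) ?_, ?_, ?_, ?_⟩
  · change pullback.snd g.left v.left ≫ V.hom = pullback.fst g.left v.left ≫ Y'.hom
    rw [← Over.w v, ← Category.assoc, ← pullback.condition, Category.assoc, Over.w g]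
  · change Smooth (pullback.fst g.left v.left)
    infer_instance
  · change Surjective (pullback.fst g.left v.left)
    infer_instance
  · exact Over.OverMorphism.ext pullback.condition

/-- **Generic points**, general form. -/
theorem exists_generic' {P G O : Over S} [Smooth P.hom] [GeometricallyIrreducible P.hom] (j : O ⟶ G)
    [IsOpenImmersion j.left] [Surjective O.hom] {Y : Over S} {κ : Type*} [Finite κ] (α : κ → (Y ⊗ P ⟶ G))
    (β : κ → (Y ⊗ O ⟶ Y ⊗ P)) (γ : κ → (Y ⊗ O ⟶ O)) (hβ : ∀ i, β i ≫ fst Y P = fst Y O)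
    (hα : ∀ i, β i ≫ α i = γ i ≫ j) :
    ∃ (V : Over S) (v : V ⟶ Y) (z : V ⟶ P), Smooth v.left ∧ Surjective v.left ∧
      ∀ i, ∃ w : V ⟶ O, w ≫ j = lift v z ≫ α i := by
  let U : (Y ⊗ P).left.Opens :=
    ⟨⋂ i, (α i).left ⁻¹' (Set.range j.left), isOpen_iInter_of_finite fun i =>
      j.left.isOpenEmbedding.isOpen_range.preimage (α i).left.continuous⟩
  have hfs : Smooth (fst Y P).left := inferInstanceAs (Smooth (pullback.fst Y.hom P.hom))
  have hfi : GeometricallyIrreducible (fst Y P).left :=
    inferInstanceAs (GeometricallyIrreducible (pullback.fst Y.hom P.hom))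
  have hfo : Surjective (fst Y O).left := inferInstanceAs (Surjective (pullback.fst Y.hom O.hom))
  let z₀ : Over.mk (U.ι ≫ (Y ⊗ P).hom) ⟶ Y ⊗ P := Over.homMk U.ι rfl
  have hz₀ : ∀ i, Set.range (z₀ ≫ α i).left ⊆ Set.range j.left := by
    rintro i _ ⟨x, rfl⟩
    have h1 : U.ι x ∈ U := x.2
    have h2 := Set.mem_iInter.mp h1 i
    exact h2
  refine ⟨_, z₀ ≫ fst Y P, z₀ ≫ snd Y P, ?_, ?_, fun i => ?_⟩
  · rw [Over.comp_left]
    change Smooth (U.ι ≫ (fst Y P).left)
    infer_instance
  · constructor
    intro y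
    have hirr : IsIrreducible ((fst Y P).left ⁻¹' {y}) :=
      (fst Y P).left.isIrreducible_preimage (fst Y P).left.isOpenMap isIrreducible_singleton
    have hne : ∀ i, ((fst Y P).left ⁻¹' {y} ∩ (α i).left ⁻¹' (Set.range j.left)).Nonempty := by
      intro i
      obtain ⟨q, hq⟩ := hfo.surj y
      refine ⟨(β i).left q, ?_, ?_⟩
      · change (fst Y P).left ((β i).left q) = y
        rw [← hq, ← hβ i]
        rfl
      · refine ⟨(γ i).left q, ?_⟩
        have h3 := congrArg (fun t => t.left q) (hα i)
        exact h3.symm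
    have hne' : ((fst Y P).left ⁻¹' {y} ∩ (U : Set (Y ⊗ P).left)).Nonempty := by
      have h1 := isIrreducible_iff_sInter.mp hirr
      classical
      have := Fintype.ofFinite κ
      obtain ⟨x, hx1, hx2⟩ := h1 (Finset.univ.image fun i => (α i).left ⁻¹' (Set.range j.left)) (by
          intro u hu
          obtain ⟨i, -, rfl⟩ := Finset.mem_image.mp hu
          exact j.left.isOpenEmbedding.isOpen_range.preimage (α i).left.continuous) (by
          intro u hu
          obtain ⟨i, -, rfl⟩ := Finset.mem_image.mp hu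
          exact hne i)
      refine ⟨x, hx1, Set.mem_iInter.mpr fun i => ?_⟩
      exact hx2 _ (Finset.mem_coe.mpr (Finset.mem_image_of_mem _ (Finset.mem_univ i)))
    obtain ⟨x, hx1, hx2⟩ := hne'
    exact ⟨⟨x, hx2⟩, hx1⟩
  · obtain ⟨w, hw⟩ := exists_factor j (z₀ ≫ α i) (hz₀ i)
    refine ⟨w, ?_⟩
    rw [hw]
    congr 1
    apply CartesianMonoidalCategory.hom_ext
    · rw [lift_fst]
    · rw [lift_snd]

section

variable {G O : Over S} [GrpObj G] [Smooth G.hom] [GeometricallyIrreducible G.hom] (j : O ⟶ G)
  [IsOpenImmersion j.left] [Surjective O.hom]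
include j

/-- **Generic points**: for finitely many points `g i` of `G` there is locally for the smooth topology a point `z` with
all `z * g i` in `O`. -/
theorem exists_generic {Y : Over S} {κ : Type*} [Finite κ] (g : κ → (Y ⟶ G)) :
    ∃ (V : Over S) (v : V ⟶ Y) (z : V ⟶ G), Smooth v.left ∧ Surjective v.left ∧
      ∀ i, ∃ w : V ⟶ O, w ≫ j = z * (v ≫ g i) := by
  obtain ⟨V, v, z, h1, h2, h3⟩ := exists_generic' j (Y := Y) (fun i => snd Y G * (fst Y G ≫ g i))
    (fun i => lift (fst Y O) ((snd Y O ≫ j) * (fst Y O ≫ g i)⁻¹)) (fun i => snd Y O) (fun i => lift_fst _ _)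
    (fun i => by rw [MonObj.comp_mul, ← Category.assoc, lift_snd, lift_fst, inv_mul_cancel_right])
  refine ⟨V, v, z, h1, h2, fun i => ?_⟩
  obtain ⟨w, hw⟩ := h3 i
  refine ⟨w, ?_⟩
  rw [hw, MonObj.comp_mul, ← Category.assoc, lift_snd, lift_fst]

/-- Every point of `G` is locally for the smooth topology a product of two points of `O`. -/
theorem exists_two {Y : Over S} (g : Y ⟶ G) :
    ∃ (V : Over S) (v : V ⟶ Y) (x y : V ⟶ O), Smooth v.left ∧ Surjective v.left ∧
      (x ≫ j) * (y ≫ j) = v ≫ g := by
  obtain ⟨V, v, z, h1, h2, h3⟩ := exists_generic' j (Y := Y) (P := G) (κ := Bool)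
    (fun i => bif i then snd Y G else (snd Y G)⁻¹ * (fst Y G ≫ g))
    (fun i => bif i then lift (fst Y O) (snd Y O ≫ j) else lift (fst Y O) ((fst Y O ≫ g) * (snd Y O ≫ j)⁻¹))
    (fun i => snd Y O)
    (fun i => by
      cases i
      · exact lift_fst _ _
      · exact lift_fst _ _)
    (fun i => by
      cases i
      · simp only [cond_false]
        rw [MonObj.comp_mul, GrpObj.comp_inv, ← Category.assoc, lift_snd, lift_fst]
        group
      · simp only [cond_true]
        rw [lift_snd])
  obtain ⟨x, hx⟩ := h3 true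
  obtain ⟨y, hy⟩ := h3 false
  refine ⟨V, v, x, y, h1, h2, ?_⟩
  simp only [cond_true, cond_false] at hx hy
  rw [hx, hy, MonObj.comp_mul, GrpObj.comp_inv, ← Category.assoc, lift_snd, lift_fst]
  group

end

end K544.GenPt
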