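import Groth.Agent.Sga3.H811.Pts

/-!
# `𝔾_m` as an open subscheme of `𝔾_a`
-/

set_option autoImplicit false
universe u
open CategoryTheory MonoidalCategory CartesianMonoidalCategory MonObj GrpObj AlgebraicGeometry Limits

namespace K544.GmGa

open Groth.Agent.Sga3B.DSPts Groth.Agent.Sga3B.GaPts Groth.Agent.Sga3.H811.Pts

variable (S : Scheme.{u})

/-- the inclusion of `𝔾_m` in `𝔾_a` -/
noncomputable def jm : Red.Gm S ⟶ Red.Ga S := gaPt (Red.Gm S) (Red.gmFn (𝟙 (Red.Gm S)))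

variable {S}

lemma gaFn_jm {X : Over S} (t : X ⟶ Red.Gm S) : Red.gaFn (t ≫ jm S) = Red.gmFn t := by
  rw [gaFn_comp, jm, gaFn_gaPt, ← gmFn_comp, Category.comp_id]

lemma eq_of_gaFn {X : Over S} (t : X ⟶ Red.Gm S) (x : X ⟶ Red.Ga S) (h : Red.gaFn x = Red.gmFn t) :
    t ≫ jm S = x := by
  apply gaFn_injective
  rw [gaFn_jm, h]

/-- A point of `𝔾_a` with invertible coordinate is a point of `𝔾_m`. -/
lemma exists_gm {X : Over S} (x : X ⟶ Red.Ga S) (h : IsUnit (Red.gaFn x)) : ∃ t : X ⟶ Red.Gm S, t ≫ jm S = x := by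
  obtain ⟨z, hz⟩ := h
  exact ⟨gmPt X z, eq_of_gaFn _ _ (by rw [gmFn_gmPt, hz])⟩

lemma gaFn_one' {X : Over S} : Red.gaFn ((1 : X ⟶ Red.Gm S) ≫ jm S) = 1 := by
  rw [gaFn_jm, gmFn_one]

instance : Mono (jm S) where
  right_cancellation := by
    intro Z g h w
    apply gmFn_injective
    rw [← gaFn_jm, ← gaFn_jm, w]

instance isOpenImmersion_jm : IsOpenImmersion (jm S).left := by
  let f : Γ((Red.Ga S).left, ⊤) := Red.gaFn (𝟙 (Red.Ga S))
  let U : (Red.Ga S).left.Opens := (Red.Ga S).left.basicOpen f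
  let W : Over S := Over.mk (U.ι ≫ (Red.Ga S).hom)
  let k : W ⟶ Red.Ga S := Over.homMk U.ι rfl
  have hk : Red.gaFn k = U.ι.appTop f := by
    have h1 := gaFn_comp k (𝟙 (Red.Ga S))
    rwa [Category.comp_id] at h1
  have hu : IsUnit (Red.gaFn k) := by
    rw [hk]
    have h1 : (U : Scheme.{u}).basicOpen (U.ι.appTop f) = ⊤ := by
      have h2 : U.ι ⁻¹ᵁ ((Red.Ga S).left.basicOpen f) = (U : Scheme.{u}).basicOpen (U.ι.appTop f) :=
        Scheme.preimage_basicOpen_top U.ι f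
      rw [← h2]
      exact Scheme.Opens.ι_preimage_self U
    refine RingedSpace.isUnit_of_isUnit_germ (U : Scheme.{u}).toRingedSpace ⊤ (U.ι.appTop f) fun x hx => ?_
    have h3 : x ∈ (U : Scheme.{u}).basicOpen (U.ι.appTop f) := by rw [h1]; trivial
    exact (Scheme.mem_basicOpen _ _ _ hx).mp h3
  obtain ⟨a, ha⟩ := exists_gm k hu
  -- the inverse
  have hr : Set.range (jm S).left ⊆ Set.range U.ι := by
    rw [Scheme.Opens.range_ι]
    rintro _ ⟨x, rfl⟩
    have h2 : (jm S).left ⁻¹ᵁ ((Red.Ga S).left.basicOpen f) = (Red.Gm S).left.basicOpen ((jm S).left.appTop f) :=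
      Scheme.preimage_basicOpen_top (jm S).left f
    have h3 : (jm S).left.appTop f = Red.gmFn (𝟙 (Red.Gm S)) := by
      have h4 := gaFn_comp (jm S) (𝟙 (Red.Ga S))
      rw [Category.comp_id] at h4
      rw [← h4, ← gaFn_jm, Category.id_comp]
    rw [h3, Scheme.basicOpen_of_isUnit _ (isUnit_gmFn (𝟙 (Red.Gm S)))] at h2
    have h5 : x ∈ (jm S).left ⁻¹ᵁ ((Red.Ga S).left.basicOpen f) := by
      rw [h2]
      trivial
    exact h5
  let b : Red.Gm S ⟶ W := Over.homMk (IsOpenImmersion.lift U.ι (jm S).left hr) (by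
    change _ ≫ U.ι ≫ (Red.Ga S).hom = _
    rw [← Category.assoc, IsOpenImmersion.lift_fac, Over.w])
  have hb : b ≫ k = jm S := by
    ext1
    exact IsOpenImmersion.lift_fac _ _ _
  have hba : b ≫ a = 𝟙 _ := by
    rw [← cancel_mono (jm S), Category.assoc, ha, hb, Category.id_comp]
  have hkm : Mono k := Over.mono_of_mono_left k
  have hab : a ≫ b = 𝟙 _ := by
    rw [← cancel_mono k, Category.assoc, hb, ha, Category.id_comp]
  have hiso : IsIso b := ⟨a, hba, hab⟩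
  have hiso' : IsIso b.left := inferInstanceAs (IsIso ((Over.forget S).map b))
  rw [← hb]
  change IsOpenImmersion (b.left ≫ U.ι)
  infer_instance

instance surjective_gm : Surjective (Red.Gm S).hom := by
  have h1 : (η[Red.Gm S] : 𝟙_ (Over S) ⟶ Red.Gm S).left ≫ (Red.Gm S).hom = 𝟙 S := Over.w _
  have h2 : Surjective ((η[Red.Gm S] : 𝟙_ (Over S) ⟶ Red.Gm S).left ≫ (Red.Gm S).hom) :=
    ⟨fun s => ⟨s, by rw [h1]; rfl⟩⟩
  exact Surjective.of_comp (η[Red.Gm S] : 𝟙_ (Over S) ⟶ Red.Gm S).left _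

end K544.GmGa
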