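import Groth.Agent.Sga3B.HaarDef
import Mathlib.RingTheory.HopfAlgebra.TensorProduct
import Mathlib.LinearAlgebra.TensorProduct.Tower

/-!
# Base change of invariant integrals
-/

set_option autoImplicit false

universe u

open TensorProduct Groth.Agent.Sga3B.HaarDef

namespace K544.HaarBc

section Comul

variable {k : Type u} (K : Type u) {A : Type u} [CommRing k] [CommRing K] [Algebra k K] [CommRing A]
  [Bialgebra k A]

/-- The comultiplication of `1 ⊗ a` in `K ⊗ A`. -/
lemma comul_one_tmul (a : A) :
    CoalgebraStruct.comul (R := K) ((1 : K) ⊗ₜ[k] a) =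
      TensorProduct.AlgebraTensorModule.distribBaseChange k K A A
        (1 ⊗ₜ CoalgebraStruct.comul (R := k) a) := by
  rw [TensorProduct.comul_tmul]
  simp only [show CoalgebraStruct.comul (R := K) (1 : K) = 1 ⊗ₜ 1 from Bialgebra.comul_one]
  generalize CoalgebraStruct.comul (R := k) a = y
  induction y using TensorProduct.induction_on with
  | zero => simp
  | tmul r a => simp
  | add x y hx hy => rw [TensorProduct.tmul_add, TensorProduct.tmul_add, map_add, map_add, hx, hy]

end Comul

variable {k K A : Type u} [CommRing k] [CommRing K] [Algebra k K] [CommRing A] [Bialgebra k A]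

/-- Base change of the integral as a linear map. -/
noncomputable def bcInt (α : A →ₗ[k] k) : K ⊗[k] A →ₗ[K] K :=
  (TensorProduct.AlgebraTensorModule.rid k K K).toLinearMap ∘ₗ α.baseChange K

lemma bcInt_tmul (α : A →ₗ[k] k) (c : K) (a : A) : bcInt (K := K) α (c ⊗ₜ a) = α a • c := by
  simp [bcInt]

/-- Base change of an invariant integral. -/
noncomputable def haarBc (ν : Haar k A) : Haar K (K ⊗[k] A) where
  int := bcInt ν.int
  int_one := by
    rw [Algebra.TensorProduct.one_def, bcInt_tmul, ν.int_one, one_smul]
  inv := by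
    have h2 : ∀ z : A ⊗[k] A, TensorProduct.lid K (K ⊗[k] A) ((bcInt (K := K) ν.int).rTensor (K ⊗[k] A)
        (TensorProduct.AlgebraTensorModule.distribBaseChange k K A A (1 ⊗ₜ z))) =
        ((1 : K) ⊗ₜ[k] (TensorProduct.lid k A (ν.int.rTensor A z))) := by
      intro z
      induction z using TensorProduct.induction_on with
      | zero => simp
      | tmul x y =>
        rw [TensorProduct.AlgebraTensorModule.distribBaseChange_tmul, LinearMap.rTensor_tmul, bcInt_tmul,
          LinearMap.rTensor_tmul, lid_tmul, lid_tmul, tmul_smul, smul_tmul']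
        simp [TensorProduct.smul_tmul']
      | add x y hx hy => rw [TensorProduct.tmul_add, map_add, map_add, map_add, hx, hy, map_add, map_add,
          tmul_add]
    have h3 : ∀ a : A, TensorProduct.lid K (K ⊗[k] A) ((bcInt (K := K) ν.int).rTensor (K ⊗[k] A)
        (CoalgebraStruct.comul (R := K) ((1 : K) ⊗ₜ[k] a))) = algebraMap K (K ⊗[k] A) (bcInt ν.int (1 ⊗ₜ a)) := by
      intro a
      rw [comul_one_tmul, h2, ν.inv, bcInt_tmul, Algebra.algebraMap_eq_smul_one, tmul_smul,
        ← Algebra.TensorProduct.one_def, Algebra.algebraMap_eq_smul_one, smul_assoc, one_smul]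
    intro x
    induction x using TensorProduct.induction_on with
    | zero => simp
    | tmul c a =>
      have h1 : c ⊗ₜ[k] a = c • ((1 : K) ⊗ₜ[k] a) := by simp [TensorProduct.smul_tmul']
      rw [h1, map_smul, map_smul, map_smul, map_smul, h3, smul_eq_mul, map_mul, Algebra.smul_def]
    | add x y hx hy => rw [map_add, map_add, map_add, hx, hy, map_add, map_add]

/-- An integral in the sense of comodules. -/
def ofIsInt (α : A →ₗ[k] k) (h : ∀ a : A, α.rTensor A (CoalgebraStruct.comul (R := k) a) = α a ⊗ₜ 1)
    (h1 : α 1 = 1) : Haar k A where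
  int := α
  int_one := h1
  inv a := by rw [h, lid_tmul, Algebra.algebraMap_eq_smul_one]

end K544.HaarBc
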