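import Groth.Agent.AutFam.K544.CellFam
import Groth.Agent.RedSub.H636.ConnFib
import Groth.Agent.Sga3C.GrpIrr
import Groth.Agent.Sga3B.IsoFam

/-!
# Homomorphisms from a split reductive group

`exists_rep`: `D` a splitting of `G` with a base of its root datum, `H` a separated group locally of finite
presentation; if the functor of homomorphisms `D.T ⟶ H` is represented by `A`, then the functor of homomorphisms
`G ⟶ H` is represented by a scheme separated and locally of finite presentation over `A`.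
-/

set_option autoImplicit false
open CategoryTheory MonoidalCategory CartesianMonoidalCategory MonObj GrpObj AlgebraicGeometry Limits
universe u

namespace K544.SplitHom

open K544.WeilExt K544.WeilClosed K544.RootClosed K544.RootFold K544.CellFam

variable {S : Scheme.{u}}

lemma irr_ga : GeometricallyIrreducible (Red.Ga S).hom := by
  have h1 : Smooth (Red.Ga S).hom := Groth.Agent.RedSub.H635.GaSm.smooth_ga
  have h2 : GrpObj (Red.Ga S) := inferInstance
  have h3 : GrpObj (Over.mk (Red.Ga S).hom) := h2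
  exact Groth.Agent.Sga3C.GrpIrr.geometricallyIrreducible_of_connected_fibres (Red.Ga S).hom
    Groth.Agent.RedSub.H636.ConnFib.hasConnectedFibres_Ga

lemma irr_of_isReductive {G : Over S} [GrpObj G] (hG : Red.IsReductive G) : GeometricallyIrreducible G.hom := by
  have h1 : Smooth G.hom := hG.2.1
  have h2 : GrpObj (Over.mk G.hom) := ‹GrpObj G›
  exact Groth.Agent.Sga3C.GrpIrr.geometricallyIrreducible_of_connected_fibres G.hom
    fun s => Groth.Agent.Sga3B.IsoFam.isConnected_fibre_of_isReductive hG s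

/-- enumerations of the positive and negative roots exist -/
lemma exists_enum {idx : Type} [Finite idx] (R : Set idx) : ∃ (n : ℕ) (e : Fin n → idx), RedSub.Enumerates R e := by
  have : Finite R := inferInstance
  obtain ⟨n, ⟨e⟩⟩ := Finite.exists_equiv_fin R
  refine ⟨n, fun k => (e.symm k).1, fun a b h => e.symm.injective (Subtype.ext h), ?_⟩
  ext x
  constructor
  · rintro ⟨k, rfl⟩
    exact (e.symm k).2
  · intro hx
    exact ⟨e ⟨x, hx⟩, by simp⟩

variable {G H : Over S} [GrpObj G] [GrpObj H]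

/-- the big cell surjects onto the base -/
lemma surjective_Om (D : Red.SplitRed G) (n m : ℕ) : Surjective (Om D n m).hom := by
  let o : 𝟙_ (Over S) ⟶ Om D n m := lift (Groth.Agent.RedSub.H636.CellPts.powPt n (fun _ => 1))
    (lift 1 (Groth.Agent.RedSub.H636.CellPts.powPt m (fun _ => 1)))
  have h1 : o.left ≫ (Om D n m).hom = 𝟙 S := Over.w o
  have h2 : Surjective (o.left ≫ (Om D n m).hom) := ⟨fun s => ⟨s, by rw [h1]; rfl⟩⟩
  exact Surjective.of_comp o.left _

/-- **Homomorphisms from a split reductive group.** -/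
theorem exists_rep (D : Red.SplitRed G) (bs : D.P.Base) [IsSeparated H.hom] [LocallyOfFinitePresentation H.hom]
    {A : Over S} (υ : D.T ⊗ A ⟶ H) (hυ : AutFam.RepresentsHom D.T H A υ) :
    ∃ (B : Over S) (p : B ⟶ A) (ψ : G ⊗ B ⟶ H), LocallyOfFinitePresentation p.left ∧ IsSeparated p.left ∧
      AutFam.RepresentsHom G H B ψ ∧ (D.i ▷ B) ≫ ψ = (D.T ◁ p) ≫ υ := by
  have hga := irr_ga (S := S)
  have hGs : Smooth G.hom := D.reductive.2.1
  have hGi := irr_of_isReductive D.reductive
  have hDi : IsMonHom D.i := D.maximalTorus.1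
  have hui : ∀ a, IsMonHom (D.u a) := fun a => (D.rootHom a).1
  obtain ⟨n, eneg, hneg⟩ := exists_enum (RedSub.negRoots D.P bs)
  obtain ⟨m, epos, hpos⟩ := exists_enum (RedSub.posRoots D.P bs)
  have hop : IsOpenImmersion (RedSub.cellMap D eneg epos).left :=
    Groth.Agent.RedSub.H633.CellOpenImm.isOpenImmersion_cellMap_base bs hneg hpos
  have hsu := surjective_Om D n m
  obtain ⟨B, p, v, hp1, hp2, hv, huniv⟩ := exists_roots D υ hυ.1 (Finset.univ.toList : List D.idx)
  have hL : ∀ a : D.idx, a ∈ (Finset.univ.toList : List D.idx) := fun a => by simp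
  obtain ⟨C, z, hz1, hz2, hz3⟩ := exists_closed_hom (G := G) (H := H) (RedSub.cellMap D eneg epos)
    (cellFam D eneg epos ((D.T ◁ p) ≫ υ) v)
  obtain ⟨ψ, hψ, hψc⟩ := (hz3 C z).mp ⟨𝟙 _, Category.id_comp _⟩
  rw [cellFam_pull] at hψc
  obtain ⟨hψ1, hψ2⟩ := restrict hneg hpos (homFamily_pull (homFamily_pull hυ.1 p) z)
    (fun a => homFamily_pull (hv a (hL a)).1 z) hψc
  have hmono : Mono z := Over.mono_of_mono_left z
  refine ⟨C, z ≫ p, ψ, ?_, ?_, ⟨hψ, fun Y φ hφ => ?_⟩, ?_⟩
  · rw [Over.comp_left]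
    infer_instance
  · rw [Over.comp_left]
    infer_instance
  · -- the universal property
    obtain ⟨b, hb, hbu⟩ := hυ.2 Y ((D.i ▷ Y) ≫ φ) (homFamily_whisker D.i hφ)
    have hw : ∀ a ∈ (Finset.univ.toList : List D.idx), AutFam.IsHomFamily (Red.Ga S) H ((D.u a ▷ Y) ≫ φ) ∧
        Equi (al D a) ((D.T ◁ b) ≫ υ) ((D.u a ▷ Y) ≫ φ) := by
      intro a _
      have := hui a
      refine ⟨homFamily_whisker (D.u a) hφ, ?_⟩
      rw [hb]
      exact equi_of_hom D hφ a
    obtain ⟨c, ⟨hc1, hc2⟩, hcu⟩ := huniv Y b (fun a => (D.u a ▷ Y) ≫ φ) hw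
    have hcell : (RedSub.cellMap D eneg epos ▷ Y) ≫ φ = (Om D n m ◁ c) ≫ cellFam D eneg epos ((D.T ◁ p) ≫ υ) v := by
      rw [cellMap_whisker D eneg epos hφ, cellFam_pull]
      congr 1
      · rw [← MonoidalCategory.whiskerLeft_comp_assoc, hc1, hb]
      · funext a
        exact (hc2 a (hL a)).symm
    obtain ⟨y, hy⟩ := (hz3 Y c).mpr ⟨φ, hφ, hcell⟩
    refine ⟨y, ?_, ?_⟩
    · refine hom_ext (j := RedSub.cellMap D eneg epos) (homFamily_pull hψ y) hφ ?_
      rw [hcell]
      have e1 : (RedSub.cellMap D eneg epos ▷ Y) ≫ (G ◁ y) ≫ ψ =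
          (Om D n m ◁ y) ≫ (RedSub.cellMap D eneg epos ▷ C) ≫ ψ := by
        refine fam_ext fun X x s => ?_
        rw [← Category.assoc, ← Category.assoc, ← Category.assoc, ← Category.assoc, lift_whiskerRight,
          lift_whiskerLeft, lift_whiskerLeft, lift_whiskerRight]
      rw [e1, hψc, ← cellFam_pull, ← MonoidalCategory.whiskerLeft_comp_assoc, hy]
    · intro y' hy'
      rw [← cancel_mono z, hy]
      refine hcu (y' ≫ z) ⟨?_, fun a _ => ?_⟩
      · refine hbu _ ?_
        rw [← hy']
        have e1 : (D.i ▷ Y) ≫ (G ◁ y') ≫ ψ = (D.T ◁ y') ≫ (D.i ▷ C) ≫ ψ := by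
          refine fam_ext fun X x s => ?_
          rw [← Category.assoc, ← Category.assoc, ← Category.assoc, ← Category.assoc, lift_whiskerRight,
            lift_whiskerLeft, lift_whiskerLeft, lift_whiskerRight]
        rw [e1, hψ1]
        simp only [MonoidalCategory.whiskerLeft_comp, Category.assoc]
      · rw [← hy']
        have e1 : (D.u a ▷ Y) ≫ (G ◁ y') ≫ ψ = (Red.Ga S ◁ y') ≫ (D.u a ▷ C) ≫ ψ := by
          refine fam_ext fun X x s => ?_
          rw [← Category.assoc, ← Category.assoc, ← Category.assoc, ← Category.assoc, lift_whiskerRight,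
            lift_whiskerLeft, lift_whiskerLeft, lift_whiskerRight]
        rw [e1, hψ2]
        simp only [MonoidalCategory.whiskerLeft_comp, Category.assoc]
  · rw [hψ1]
    simp only [MonoidalCategory.whiskerLeft_comp, Category.assoc]

end K544.SplitHom
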