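import Groth.Agent.AutFam.K544.ModelBc
import Groth.Agent.AutFam.K544.SplitHom
import Groth.Agent.HopfRep.K191.Reductive
import Groth.Agent.Sga3B.SplitBc264b
import Groth.Agent.Sga3B.SplitRedField415
import Groth.Agent.S8082
import Groth.Agent.S3950
import Groth.Agent.S3004
import Mathlib.Algebra.CharP.MixedCharZero

/-!
# Reductive groups in characteristic zero have invariant integrals

* `exists_haar_field`: over a field of characteristic zero;
* `hasInt_of_pinning`: for a pinned group over an affine scheme of characteristic zero.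
-/

set_option autoImplicit false
universe u
open CategoryTheory MonoidalCategory CartesianMonoidalCategory MonObj GrpObj AlgebraicGeometry Limits
open scoped TensorProduct

namespace K544.HaarRed

open Groth.Agent.Sga3B Groth.Agent.Books.AffBridge K544.ModelBc
open Groth.Agent.Sga3B.HaarDef (Haar)

/-- **Integrals on reductive groups over fields of characteristic zero.** -/
theorem exists_haar_field (k : Type u) [Field k] [CharZero k] (G : Over (Spec (CommRingCat.of k))) [GrpObj G]
    (hG : Red.IsReductive G) :
    ∃ (A : Type u) (_ : CommRing A) (_ : HopfAlgebra k A) (e : G ≅ SpecOver k A),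
      IsMonHom e.hom ∧ Nonempty (Haar k A) := by
  have h1 : IsAffineHom G.hom := hG.1
  have h2 : Smooth G.hom := hG.2.1
  have h3 : IsAffine G.left := isAffine_of_isAffineHom G.hom
  have h4 : GeometricallyIrreducible G.hom := K544.SplitHom.irr_of_isReductive hG
  obtain ⟨A, _, _, e, he⟩ := exists_hopf k G
  let eg : Grp.mk G ≅ Grp.mk (SpecOver k A) := Grp.mkIso e
  have hA : Red.IsReductive (SpecOver k A) := AlgBc.isReductive_of_iso eg hG
  have i1 : Algebra.FiniteType k A := by
    have h5 : Smooth (SpecOver k A).hom := hA.2.1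
    have h6 : LocallyOfFiniteType (Spec.map (CommRingCat.ofHom (algebraMap k A))) :=
      inferInstanceAs (LocallyOfFiniteType (SpecOver k A).hom)
    have h7 := (HasRingHomProperty.Spec_iff (P := @LocallyOfFiniteType)).1 h6
    exact RingHom.finiteType_algebraMap.1 h7
  have i2 : ConnectedSpace ↥(Spec (CommRingCat.of A)) := by
    have h5 : GeometricallyIrreducible (SpecOver k A).hom := K544.SplitHom.irr_of_isReductive hA
    have h6 : IrreducibleSpace (SpecOver k A).left :=
      GeometricallyIrreducible.irreducibleSpace_of_subsingleton (SpecOver k A).hom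
    have h7 : ConnectedSpace (SpecOver k A).left := inferInstance
    exact h7
  obtain ⟨α, hα, hα1⟩ := (K191.Reductive.isLinearlyReductive_iff_isInt (k := k) (A := A)).1
    ((Groth.Agent.S8082.result k A).1 hA)
  exact ⟨A, _, _, e, he, ⟨K544.HaarBc.ofIsInt α (fun a => hα a) hα1⟩⟩

/-- A ring of characteristic zero (in the strong sense) is a `ℚ`-algebra. -/
theorem exists_algebraRat {R : Type u} [CommRing R]
    (h : ∀ s : Spec (CommRingCat.of R), CharZero ((Spec (CommRingCat.of R)).residueField s)) :
    Nonempty (Algebra ℚ R) := by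
  rw [EqualCharZero.nonempty_algebraRat_iff]
  intro I hI
  obtain ⟨M, hM, hIM⟩ := Ideal.exists_le_maximal I hI
  let s : Spec (CommRingCat.of R) := ⟨M, hM.isPrime⟩
  let g : R →+* (Spec (CommRingCat.of R)).residueField s :=
    (Spec.preimage ((Spec (CommRingCat.of R)).fromSpecResidueField s)).hom
  have hg : ∀ a ∈ I, g a = 0 := by
    intro a ha
    by_contra hne
    have h1 : ((Spec (CommRingCat.of R)).fromSpecResidueField s) (IsLocalRing.closedPoint _) = s :=
      Scheme.fromSpecResidueField_apply _ _
    have h2 : Spec.map (CommRingCat.ofHom g) = (Spec (CommRingCat.of R)).fromSpecResidueField s :=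
      Spec.map_preimage _
    rw [← h2] at h1
    have h3 : a ∈ (PrimeSpectrum.comap g (IsLocalRing.closedPoint _)).asIdeal := by
      have h4 : (PrimeSpectrum.comap g (IsLocalRing.closedPoint _)) = s := h1
      rw [h4]
      exact hIM ha
    have h5 : g a ∈ IsLocalRing.maximalIdeal ((Spec (CommRingCat.of R)).residueField s) := h3
    rw [IsLocalRing.mem_maximalIdeal, mem_nonunits_iff, isUnit_iff_ne_zero, not_not] at h5
    exact hne h5
  have := h s
  exact RingHom.charZero (Ideal.Quotient.lift I g hg)

/-- **Integrals on pinned groups** over an affine scheme of characteristic zero. -/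
theorem hasInt_of_pinning {R : Type u} [CommRing R]
    (h : ∀ s : Spec (CommRingCat.of R), CharZero ((Spec (CommRingCat.of R)).residueField s))
    [Nonempty (Spec (CommRingCat.of R))]
    {G : Over (Spec (CommRingCat.of R))} [GrpObj G] (D : Red.Pinning G) : HasInt G := by
  obtain ⟨alg⟩ := exists_algebraRat h
  let f : Spec (CommRingCat.of R) ⟶ Spec (CommRingCat.of (ULift.{u} ℚ)) :=
    Spec.map (CommRingCat.ofHom ((algebraMap ℚ R).comp (ULift.ringEquiv (R := ℚ)).toRingHom))
  have hred : D.P.IsReduced := SplitReduced415.isReduced D.toSplitRed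
  obtain ⟨G₀, _, D₀, e, he⟩ := Groth.Agent.S3950.result (Spec (CommRingCat.of (ULift.{u} ℚ))) D.P D.base
  have hchar : CharZero (ULift.{u} ℚ) :=
    charZero_of_injective_ringHom (f := (ULift.ringEquiv (R := ℚ)).symm.toRingHom) (ULift.ringEquiv (R := ℚ)).symm.injective
  obtain ⟨A, _, _, c, hc, ⟨ν⟩⟩ := exists_haar_field (ULift.{u} ℚ) G₀ D₀.reductive
  let D₁ : Red.Pinning (Red.bc f G₀) :=
    { toSplitRed := SplitBc264.splitBc f D₀.toSplitRed
      base := D₀.base }
  obtain ⟨φ, ⟨hφ, -⟩, -⟩ := Groth.Agent.S3004.result (Spec (CommRingCat.of R)) (Red.bc f G₀) G D₁ D e.symm (by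
    intro a
    have := he (e.indexEquiv.symm a)
    rw [Equiv.apply_symm_apply] at this
    exact this.symm)
  exact hasInt_of_form c ν f (Grp.mkIso φ).symm

end K544.HaarRed
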