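import Groth.Agent.AutFam.K544.PinPair
import Groth.Agent.Sga3B.RepDescent9
import Groth.Agent.Sga3B.SplitBc264b
import Groth.Agent.Sga3B.Parab.GeomFib147

/-!
# `Isom` of pinned groups: quasi-compactness and the finiteness of the set of equivalences of based root data
-/

set_option autoImplicit false
open CategoryTheory MonoidalCategory CartesianMonoidalCategory MonObj GrpObj AlgebraicGeometry Limits
universe u

namespace K544.IsomQc

open Groth.Agent.Sga3B Groth.Agent.Sga3B.IsomLocal Groth.Agent.Sga3B.IsoFam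

/-- If the scheme of isomorphisms of two pinned groups is quasi-compact then there are only finitely many
equivalences of the based root data. -/
theorem finite_baseEquiv {R : Type u} [CommRing R] [Nontrivial R] {G G' : Over (Spec (CommRingCat.of R))}
    [GrpObj G] [GrpObj G'] (D : Red.Pinning G) (D' : Red.Pinning G') {A : Over (Spec (CommRingCat.of R))}
    {υ : G ⊗ A ⟶ G'} (hA : AutFam.RepresentsIsom G G' A υ) (hqc : QuasiCompact A.hom) :
    Finite (BaseEquiv D D') := by
  have hne : Nonempty (Spec (CommRingCat.of R)) := inferInstance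
  choose f hf using IsomLocal2.exists_fe D D'
  have h1 := fun x : A.left => h1_of D D' (IsomHa505.haStmt D.toSplitRed D'.toSplitRed)
    (ChartFam.hbStmt D.toSplitRed D'.toSplitRed) (IsomHd848.hdStmt D D')
    (IsomHe832.heStmt_of_models D (fun R _ s => PinModelOf.nonempty_pinModel D R s)) f hf A υ hA.1 x
  choose V v hv1 hv2 hv3 e g hg using h1
  have hcs : CompactSpace A.left := (quasiCompact_iff_compactSpace A.hom).mp hqc
  obtain ⟨t, ht⟩ := isCompact_univ.elim_finite_subcover (fun x : A.left => Set.range (v x).left)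
    (fun x => by
      have := hv1 x
      have := hv2 x
      exact (v x).left.isOpenMap.isOpen_range) (fun x _ => Set.mem_iUnion.mpr ⟨x, hv3 x⟩)
  refine Set.finite_univ_iff.mp ((Set.Finite.image e t.finite_toSet).subset fun e' _ => ?_)
  -- the section of `A` attached to `e'`
  obtain ⟨a, ha, -⟩ := hA.2 (𝟙_ _) _ (isIsoFamily_const (V := 𝟙_ _) (f e'))
  obtain ⟨p⟩ := hne
  obtain ⟨x, hx, ⟨q, hq⟩⟩ := Set.mem_iUnion₂.mp (ht (Set.mem_univ (a.left p)))
  obtain ⟨z, -, -⟩ := Scheme.Pullback.exists_preimage_pullback (f := (v x).left) (g := a.left) q p hq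
  refine ⟨x, hx, ?_⟩
  -- the common refinement
  let X : Over (Spec (CommRingCat.of R)) := Over.mk (pullback.fst (v x).left a.left ≫ (V x).hom)
  let x₁ : X ⟶ V x := Over.homMk (pullback.fst (v x).left a.left) rfl
  let x₂ : X ⟶ 𝟙_ _ := toUnit X
  have hx12 : x₁ ≫ v x = x₂ ≫ a := by
    have h2 : x₂ = Over.homMk (pullback.snd (v x).left a.left) (by
      change _ = pullback.fst (v x).left a.left ≫ (V x).hom
      rw [← Over.w (v x), pullback.condition_assoc, Over.w a]) := toUnit_unique _ _
    rw [h2]
    apply Over.OverMorphism.ext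
    exact pullback.condition
  refine h0_of D D' (SplitCmp588.h0Stmt D'.toSplitRed) f hf (e x) e' X ⟨z⟩ (x₁ ≫ g x) fun X' x' y => ?_
  have h3 := hg x X' (x' ≫ x₁) y
  have h4 : lift y ((x' ≫ x₁) ≫ v x) ≫ υ = y ≫ (f e').hom.hom.hom := by
    have h5 := congrArg (fun k => lift y (x' ≫ x₂) ≫ k) ha
    rw [← Category.assoc, lift_whiskerLeft, ← Category.assoc, lift_fst] at h5
    rw [← h5, Category.assoc, Category.assoc, hx12]
  rw [h4, Category.assoc] at h3
  exact h3.symm

/-- If there are only finitely many equivalences of the based root data, the scheme of isomorphisms is affine. -/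
theorem exists_affine {R : Type u} [CommRing R] [Nontrivial R] {G G' : Over (Spec (CommRingCat.of R))}
    [GrpObj G] [GrpObj G'] (D : Red.Pinning G) (D' : Red.Pinning G') [hfin : Finite (BaseEquiv D D')] :
    ∃ (A : Over (Spec (CommRingCat.of R))) (υ : G ⊗ A ⟶ G'), AutFam.RepresentsIsom G G' A υ ∧
      IsAffineHom A.hom := by
  have hne : Nonempty (Spec (CommRingCat.of R)) := inferInstance
  choose f hf using IsomLocal2.exists_fe D D'
  obtain ⟨A, υ, h1, h2, h3, h4, h5⟩ := AdCentre.exists_representsIsom D'.toSplitRed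
    (Groth.Agent.S2962.result D'.toSplitRed) (ULift.{u} (BaseEquiv D D')) (fun e => f e.down)
    (fun e e' X hX g hg => ULift.ext _ _
      (h0_of D D' (SplitCmp588.h0Stmt D'.toSplitRed) f hf e.down e'.down X hX g hg))
    (fun X φ hφ x => by
      obtain ⟨V, v, h1, h2, h3, e, g, h4⟩ := h1_of D D' (IsomHa505.haStmt D.toSplitRed D'.toSplitRed)
        (ChartFam.hbStmt D.toSplitRed D'.toSplitRed) (IsomHd848.hdStmt D D')
        (IsomHe832.heStmt_of_models D (fun R _ s => PinModelOf.nonempty_pinModel D R s)) f hf X φ hφ x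
      exact ⟨V, v, h1, h2, h3, ⟨e⟩, g, h4⟩)
  exact ⟨A, υ, h1, h5 inferInstance⟩

/-- a splitting near a point gives a splitting with the same root datum of the geometric fibre at the point -/
theorem exists_split_geomFibre {S : Scheme.{u}} {G : Over S} [GrpObj G] {U : Scheme.{u}} (v : U ⟶ S)
    [LocallyQuasiFinite v] (D : Red.SplitRed (Red.bc v G)) (x : U) :
    ∃ D' : Red.SplitRed (Red.geomFibre (v x) G),
      Module.finrank ℤ D'.M = Module.finrank ℤ D.M ∧
      Module.finrank ℤ (Submodule.span ℤ (Set.range D'.P.root)) =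
        Module.finrank ℤ (Submodule.span ℤ (Set.range D.P.root)) := by
  obtain ⟨φ, hφ, h⟩ := Parab.GeomFib147.exists_geomPt v x
  have h' : inv φ ≫ Red.geomPt x ≫ v = Red.geomPt (v x) := by rw [h, IsIso.inv_hom_id_assoc]
  let e : Grp.mk (Red.bc (inv φ ≫ Red.geomPt x) (Red.bc v G)) ≅ Grp.mk (Red.geomFibre (v x) G) :=
    (BcIso.bcCompIso (inv φ ≫ Red.geomPt x) v G).symm ≪≫
      BcIso.bcCongrIso ((Category.assoc _ _ _).trans h') G
  exact ⟨SplitIso848.splitOfIso e (SplitBc264.splitBc (inv φ ≫ Red.geomPt x) D), rfl, rfl⟩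

end K544.IsomQc
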