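import Groth.Agent.AutFam.K544.HaarBc
import Groth.Agent.Sga3B.BcTor144
import Groth.Agent.Sga3B.BcIso
import Groth.Agent.Sga3.H802.DSFam
import Groth.Agent.Sga3B.TorSmooth893

/-!
# Smoothness of the scheme of homomorphisms out of a group with an invariant integral

* `exists_model_bc`: models of the base changes of a form of a group with an invariant integral;
* `smooth_of_model`: if all affine base changes of `G` have models with invariant integrals, and `H` is smooth,
  separated, and its base changes have affine neighbourhoods of the unit section, then `Hom_{S-gr}(G, H)` is smooth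
  if it is representable by a scheme locally of finite presentation.
-/

set_option autoImplicit false
universe u
open CategoryTheory MonoidalCategory CartesianMonoidalCategory MonObj GrpObj AlgebraicGeometry Limits
open scoped TensorProduct

namespace K544.ModelBc

open Groth.Agent.Sga3B Groth.Agent.Sga3B.InfConj Groth.Agent.Sga3B.InfConjFam
open Groth.Agent.Books.AffBridge Groth.Agent.Sga3B.AffPts Groth.Agent.Sga3B.BcTor144 Groth.Agent.Sga3B.BcSpec144
open Groth.Agent.Sga3B.HaarDef (Haar)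
open Groth.Agent.Sga3.H802.HomFam Groth.Agent.Sga3.H802.DSFam

/-- All affine base changes of `G` have models with an invariant integral. -/
def HasInt {S : Scheme.{u}} (G : Over S) [GrpObj G] : Prop :=
  ∀ (C : Type u) [CommRing C] (x : Spec (CommRingCat.of C) ⟶ S),
    ∃ (D : Type u) (_ : CommRing D) (_ : HopfAlgebra C D) (e : Red.bc x G ≅ pt C D), IsModel e ∧ Nonempty (Haar C D)

theorem hasInt_of_form {k : Type u} [CommRing k] {G₀ : Over (Spec (CommRingCat.of k))} [GrpObj G₀]
    {A : Type u} [CommRing A] [HopfAlgebra k A] (e : G₀ ≅ SpecOver k A) [IsMonHom e.hom] (ν : Haar k A)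
    {S : Scheme.{u}} (f : S ⟶ Spec (CommRingCat.of k)) {G : Over S} [GrpObj G]
    (φ : Grp.mk G ≅ Grp.mk (Red.bc f G₀)) : HasInt G := by
  intro C _ x
  let alg : Algebra k C := (Spec.preimage (x ≫ f)).hom.toAlgebra
  have hf : x ≫ f = fK k C := (Spec.map_preimage (x ≫ f)).symm
  let ψ : Grp.mk (Red.bc x G) ≅ Grp.mk (Red.bc (fK k C) G₀) :=
    BcIso.bcMapIso x φ ≪≫ (BcIso.bcCompIso x f G₀).symm ≪≫ BcIso.bcCongrIso hf G₀
  let ψ' : Red.bc x G ≅ Red.bc (fK k C) G₀ := (Grp.forget _).mapIso ψ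
  have i1 : IsMonHom ψ'.hom := inferInstanceAs (IsMonHom ψ.hom.hom.hom)
  have i2 : IsMonHom (ψ' ≪≫ eK C e).hom := inferInstanceAs (IsMonHom (ψ'.hom ≫ (eK C e).hom))
  exact ⟨C ⊗[k] A, inferInstance, inferInstance, ψ' ≪≫ eK C e, isModel_of_isMonHom (ψ' ≪≫ eK C e),
    ⟨K544.HaarBc.haarBc ν⟩⟩

/-- **Smoothness.** -/
theorem smooth_of_hasInt {S : Scheme.{u}} {G H : Over S} [GrpObj G] [GrpObj H] (hG : HasInt G) [Smooth H.hom]
    [IsSeparated H.hom]
    (hU : ∀ (C : Type u) [CommRing C] (x : Spec (CommRingCat.of C) ⟶ S), HasAffineUnitNhd (Red.bc x H))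
    {A : Over S} {υ : G ⊗ A ⟶ H} (hA : AutFam.RepresentsHom G H A υ) [LocallyOfFinitePresentation A.hom] :
    Smooth A.hom := by
  refine TorSmooth893.smooth_of_lift A fun C _ I hI x a => ?_
  obtain ⟨D, _, _, e, he, ⟨ν⟩⟩ := hG C x
  have h₀ : AutFam.IsHomFamily G H ((G ◁ a) ≫ υ) := IsoFam.isHomFamily_pull hA.1 a
  obtain ⟨b, hb, hb'⟩ := exists_lift_bc x (hU C x) e he ν I ⟨2, by rw [pow_two]; exact hI⟩ _ h₀
  obtain ⟨l, hl, -⟩ := hA.2 _ b hb
  refine ⟨l, ?_⟩
  obtain ⟨c, -, hc⟩ := hA.2 _ _ h₀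
  rw [hc a rfl]
  refine hc _ ?_
  change (G ◁ (redMap x I ≫ l)) ≫ υ = _
  rw [MonoidalCategory.whiskerLeft_comp, Category.assoc]
  exact (congrArg _ hl).trans hb'

end K544.ModelBc
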