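import Groth.Agent.Sga3B.IsomLocalFinal
import Groth.Agent.Sga3B.IsomPin848
import Groth.Agent.Sga3B.SplitRedField415
import Groth.Agent.S2958

/-!
# Étale-local pinnings; non-empty families of isomorphisms between pinned groups
-/

set_option autoImplicit false
open CategoryTheory MonoidalCategory CartesianMonoidalCategory MonObj GrpObj AlgebraicGeometry Limits
universe u

namespace K544.PinPair

open Groth.Agent.Sga3B Groth.Agent.Sga3B.IsomLocal Groth.Agent.Sga3B.IsoFam

/-- a reductive group is étale-locally split with reduced root datum -/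
theorem splitNear {S : Scheme.{u}} (L : Over S) [GrpObj L] (hL : Red.IsReductive L) (s : S) :
    IsomPin848.SplitNear L s := by
  obtain ⟨U, f, hf, hs, ⟨D⟩⟩ := Groth.Agent.S2958.result L hL s
  have : Nonempty U := ⟨hs.choose⟩
  exact ⟨U, f, hf, hs, D, Groth.Agent.Sga3B.SplitReduced415.isReduced D⟩

/-- simultaneous étale-local pinnings of two reductive groups -/
theorem exists_pinnings {S : Scheme.{u}} {G H : Over S} [GrpObj G] [GrpObj H] (hG : Red.IsReductive G)
    (hH : Red.IsReductive H) (s : S) :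
    ∃ (R : CommRingCat.{u}) (v : Spec R ⟶ S), Etale v ∧ s ∈ Set.range v.base ∧
      Nonempty (Red.Pinning (Red.bc v G)) ∧ Nonempty (Red.Pinning (Red.bc v H)) :=
  IsomPin848.exists_pinnings G H s (splitNear G hG s) (splitNear H hH s)

/-- étale-local pinnings -/
theorem exists_pinning {S : Scheme.{u}} {G : Over S} [GrpObj G] (hG : Red.IsReductive G) (s : S) :
    ∃ (R : CommRingCat.{u}) (v : Spec R ⟶ S), Etale v ∧ s ∈ Set.range v.base ∧
      Nonempty (Red.Pinning (Red.bc v G)) := by
  obtain ⟨R, v, hv, hs, h, -⟩ := exists_pinnings hG hG s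
  exact ⟨R, v, hv, hs, h⟩

/-- A non-empty family of isomorphisms between two pinned groups over an affine base gives an equivalence of
root data respecting the bases. -/
theorem nonempty_baseEquiv {R : Type u} [CommRing R] {G G' : Over (Spec (CommRingCat.of R))} [GrpObj G]
    [GrpObj G'] (D : Red.Pinning G) (D' : Red.Pinning G') {X : Over (Spec (CommRingCat.of R))}
    (φ : G ⊗ X ⟶ G') (hφ : AutFam.IsIsoFamily G G' φ) (x : X.left) : Nonempty (BaseEquiv D D') := by
  obtain ⟨-, -, -, -, -, -, e, -⟩ := stepA D D' (IsomHa505.haStmt D.toSplitRed D'.toSplitRed)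
    (ChartFam.hbStmt D.toSplitRed D'.toSplitRed) X φ hφ x
  exact ⟨e⟩

/-- Two pinned groups over an affine base which become isomorphic over some non-empty scheme are isomorphic. -/
theorem nonempty_iso {R : Type u} [CommRing R] {G G' : Over (Spec (CommRingCat.of R))} [GrpObj G]
    [GrpObj G'] (D : Red.Pinning G) (D' : Red.Pinning G') {X : Scheme.{u}} [Nonempty X]
    (f : X ⟶ Spec (CommRingCat.of R)) (e : Nonempty (Grp.mk (Red.bc f G) ≅ Grp.mk (Red.bc f G'))) :
    Nonempty (Grp.mk G ≅ Grp.mk G') := by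
  obtain ⟨e⟩ := e
  obtain ⟨x⟩ := ‹Nonempty X›
  have : Nonempty (Spec (CommRingCat.of R)) := ⟨f x⟩
  obtain ⟨e'⟩ := nonempty_baseEquiv D D' (X := Over.mk f) _ (isIsoFamily_fam e) x
  obtain ⟨g, -⟩ := IsomLocal2.exists_fe D D' e'
  exact ⟨g⟩

end K544.PinPair
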