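import Mathlib.AlgebraicGeometry.ZariskisMainTheorem
import Mathlib.AlgebraicGeometry.QuasiAffine

/-!
# Schemes with quasi-affine quasi-compact opens

* `LQA.of_mono`: a scheme with a monomorphism locally of finite type to such a scheme is of the same kind
  (Zariski's main theorem).
* `LQA.pullback`: fibre products over an affine scheme.
-/

set_option autoImplicit false
open CategoryTheory AlgebraicGeometry Limits
universe u

namespace K544.QAff

/-- all quasi-compact opens are quasi-affine -/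
def LQA (X : Scheme.{u}) : Prop := ∀ U : X.Opens, IsCompact (U : Set X) → (U : Scheme.{u}).IsQuasiAffine

/-- A compact subset of a scheme is contained in a quasi-compact open subset. -/
theorem exists_isCompact_opens (X : Scheme.{u}) (K : Set X) (hK : IsCompact K) :
    ∃ U : X.Opens, IsCompact (U : Set X) ∧ K ⊆ U := by
  choose V hV hxV using fun x : X => show ∃ V : X.Opens, IsAffineOpen V ∧ x ∈ V from by
    obtain ⟨V, hV, hx, -⟩ := exists_isAffineOpen_mem_and_subset (show x ∈ (⊤ : X.Opens) from trivial)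
    exact ⟨V, hV, hx⟩
  obtain ⟨t, ht⟩ := hK.elim_finite_subcover (fun x : X => (V x : Set X)) (fun x => (V x).isOpen)
    (fun x _ => Set.mem_iUnion.mpr ⟨x, hxV x⟩)
  refine ⟨⨆ x ∈ t, V x, ?_, ?_⟩
  · have : ((⨆ x ∈ t, V x : X.Opens) : Set X) = ⋃ x ∈ t, (V x : Set X) := by simp
    rw [this]
    exact t.isCompact_biUnion fun x _ => (hV x).isCompact
  · intro x hx
    have := ht hx
    simpa using this

/-- the image of a compact open lifts to a quasi-affine open -/
theorem LQA.exists_lift {X Y : Scheme.{u}} (h : LQA Y) (f : X ⟶ Y) (U : X.Opens) (hU : IsCompact (U : Set X)) :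
    ∃ (W : Y.Opens) (g : (U : Scheme.{u}) ⟶ W), (W : Scheme.{u}).IsQuasiAffine ∧ g ≫ W.ι = U.ι ≫ f := by
  obtain ⟨W, hW, hUW⟩ := exists_isCompact_opens Y (f '' (U : Set X)) (hU.image f.continuous)
  have hr : Set.range (U.ι ≫ f) ⊆ Set.range W.ι := by
    rw [Scheme.Opens.range_ι]
    rintro _ ⟨x, rfl⟩
    exact hUW ⟨U.ι x, x.2, rfl⟩
  exact ⟨W, IsOpenImmersion.lift W.ι (U.ι ≫ f) hr, h W hW, IsOpenImmersion.lift_fac _ _ _⟩

/-- **Monomorphisms locally of finite type.** -/
theorem LQA.of_mono {X Y : Scheme.{u}} (f : X ⟶ Y) [Mono f] [LocallyOfFiniteType f] (h : LQA Y) : LQA X := by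
  intro U hU
  obtain ⟨W, g, hW, hg⟩ := h.exists_lift f U hU
  have h1 : Mono (g ≫ W.ι) := by rw [hg]; infer_instance
  have h2 : Mono g := mono_of_mono g W.ι
  have h3 : LocallyOfFiniteType (g ≫ W.ι) := by rw [hg]; infer_instance
  have h4 : LocallyOfFiniteType g := locallyOfFiniteType_of_comp g W.ι
  have h5 : CompactSpace U := isCompact_iff_compactSpace.1 hU
  have h6 : QuasiCompact g := inferInstance
  have h7 : LocallyQuasiFinite g := inferInstance
  have h8 : (g.normalization).IsQuasiAffine := Scheme.IsQuasiAffine.of_isAffineHom g.fromNormalization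
  exact Scheme.IsQuasiAffine.of_isImmersion g.toNormalization

/-- The structure morphism of a quasi-affine scheme over an affine scheme factors through its affine hull. -/
lemma exists_hull {W S : Scheme.{u}} [IsAffine S] (a : W ⟶ S) : ∃ b : Spec Γ(W, ⊤) ⟶ S, W.toSpecΓ ≫ b = a := by
  refine ⟨Spec.map a.appTop ≫ inv S.toSpecΓ, ?_⟩
  rw [← Category.assoc, ← Scheme.toSpecΓ_naturality, Category.assoc, IsIso.hom_inv_id, Category.comp_id]

/-- **Fibre products over an affine scheme.** -/
theorem LQA.pullback {X Y S : Scheme.{u}} [IsAffine S] (f : X ⟶ S) (g : Y ⟶ S) (hX : LQA X) (hY : LQA Y) :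
    LQA (pullback f g) := by
  intro K hK
  obtain ⟨W₁, k₁, hW₁, hk₁⟩ := hX.exists_lift (pullback.fst f g) K hK
  obtain ⟨W₂, k₂, hW₂, hk₂⟩ := hY.exists_lift (pullback.snd f g) K hK
  obtain ⟨b₁, hb₁⟩ := exists_hull (W₁.ι ≫ f)
  obtain ⟨b₂, hb₂⟩ := exists_hull (W₂.ι ≫ g)
  let m : Limits.pullback (W₁.ι ≫ f) (W₂.ι ≫ g) ⟶ Limits.pullback b₁ b₂ :=
    pullback.map _ _ _ _ (W₁ : Scheme.{u}).toSpecΓ (W₂ : Scheme.{u}).toSpecΓ (𝟙 S) (by rw [Category.comp_id, hb₁])
      (by rw [Category.comp_id, hb₂])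
  have hm : IsOpenImmersion m := inferInstance
  let n : Limits.pullback (W₁.ι ≫ f) (W₂.ι ≫ g) ⟶ Limits.pullback f g :=
    pullback.map _ _ _ _ W₁.ι W₂.ι (𝟙 S) (by rw [Category.comp_id]) (by rw [Category.comp_id])
  have hn : IsOpenImmersion n := inferInstance
  let k : (K : Scheme.{u}) ⟶ Limits.pullback (W₁.ι ≫ f) (W₂.ι ≫ g) := pullback.lift k₁ k₂ (by
    rw [reassoc_of% hk₁, reassoc_of% hk₂, pullback.condition])
  have hkn : k ≫ n = K.ι := by
    apply pullback.hom_ext
    · rw [Category.assoc, pullback.lift_fst, pullback.lift_fst_assoc, hk₁]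
    · rw [Category.assoc, pullback.lift_snd, pullback.lift_snd_assoc, hk₂]
  have h1 : IsOpenImmersion (k ≫ n) := by rw [hkn]; infer_instance
  have h2 : IsOpenImmersion k := IsOpenImmersion.of_comp k n
  have h3 : CompactSpace K := isCompact_iff_compactSpace.1 hK
  exact Scheme.IsQuasiAffine.of_isImmersion (k ≫ m)

lemma LQA.of_isAffine (X : Scheme.{u}) [IsAffine X] : LQA X := fun U hU => by
  have : CompactSpace U := isCompact_iff_compactSpace.1 hU
  exact Scheme.IsQuasiAffine.of_isImmersion U.ι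

end K544.QAff
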