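import Groth.Agent.Sga3B.IsomComb
import Mathlib.LinearAlgebra.RootSystem.Finite.Nondegenerate
import Mathlib.LinearAlgebra.FreeModule.PID

/-!
# Finiteness of the group of automorphisms of a based root datum

The group of automorphisms of a root datum on the lattice `M` respecting a base is finite if and only if
`rank M ≤ rank (span of the roots) + 1`.
-/

set_option autoImplicit false

open Module

namespace K544.RankComb

open Groth.Agent.Sga3B

section

variable {idx M N : Type*} [Fintype idx] [AddCommGroup M] [AddCommGroup N]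
  (P : RootPairing idx ℤ M N)

/-- rank-nullity over `ℤ` -/
lemma rank_nullity {A B : Type*} [AddCommGroup A] [AddCommGroup B] [Module.Finite ℤ A] (f : A →ₗ[ℤ] B) :
    finrank ℤ (LinearMap.range f) + finrank ℤ (LinearMap.ker f) = finrank ℤ A := by
  rw [← (LinearMap.ker f).finrank_quotient_add_finrank, f.quotKerEquivRange.finrank_eq]

/-- the characters orthogonal to the coroots -/
noncomputable abbrev K : Submodule ℤ M := LinearMap.ker P.RootForm

lemma mem_K {m : M} : m ∈ K P ↔ ∀ a, P.toLinearMap m (P.coroot a) = 0 := by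
  constructor
  · intro h a
    have h1 : P.RootForm m m = 0 := by
      rw [LinearMap.mem_ker.mp h]; rfl
    rw [RootPairing.rootForm_apply_apply] at h1
    have h2 := (Finset.sum_eq_zero_iff_of_nonneg (fun i _ => mul_self_nonneg (P.coroot' i m))).mp h1 a
      (Finset.mem_univ a)
    exact mul_self_eq_zero.mp h2
  · intro h
    rw [LinearMap.mem_ker]
    ext y
    rw [RootPairing.rootForm_apply_apply]
    exact Finset.sum_eq_zero fun i _ => by
      have : P.coroot' i m = 0 := h i
      rw [this, zero_mul]

variable [Module.Free ℤ M] [Module.Finite ℤ M]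

lemma finrank_range_polarization :
    finrank ℤ (LinearMap.range P.Polarization) = finrank ℤ (P.rootSpan ℤ) := by
  apply le_antisymm
  · rw [← P.finrank_corootSpan_eq']
    apply Submodule.finrank_mono
    rintro _ ⟨x, rfl⟩
    rw [RootPairing.Polarization_apply]
    exact Submodule.sum_mem _ fun i _ => Submodule.smul_mem _ _ (Submodule.subset_span ⟨i, rfl⟩)
  · rw [← P.finrank_corootSpan_eq', ← P.finrank_rootSpan_map_polarization_eq_finrank_corootSpan]
    exact Submodule.finrank_mono LinearMap.map_le_range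

lemma finrank_K : finrank ℤ (K P) + finrank ℤ (P.rootSpan ℤ) = finrank ℤ M := by
  rw [← finrank_range_polarization, K, ← P.ker_polarization_eq_ker_rootForm, add_comm]
  exact rank_nullity P.Polarization

lemma finrank_sup : finrank ℤ ↥(P.rootSpan ℤ ⊔ K P) = finrank ℤ M := by
  rw [← finrank_K P, add_comm (finrank ℤ (K P))]
  have h := Submodule.rank_sup_add_rank_inf_eq (P.rootSpan ℤ) (K P)
  rw [(P.disjoint_rootSpan_ker_rootForm).eq_bot, rank_bot, add_zero, ← finrank_eq_rank, ← finrank_eq_rank,
    ← finrank_eq_rank] at h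
  exact_mod_cast h

/-- a linear map vanishing on the roots and on `K` is zero -/
lemma eq_zero_of_vanish (δ : M →ₗ[ℤ] M) (h1 : ∀ a, δ (P.root a) = 0) (h2 : ∀ m ∈ K P, δ m = 0) : δ = 0 := by
  have hle : P.rootSpan ℤ ⊔ K P ≤ LinearMap.ker δ := by
    apply sup_le
    · rw [RootPairing.rootSpan, Submodule.span_le]
      rintro _ ⟨a, rfl⟩
      exact h1 a
    · intro m hm
      exact h2 m hm
  have h3 := Submodule.finrank_mono hle
  rw [finrank_sup] at h3
  have h4 := rank_nullity δ
  have h5 : finrank ℤ (LinearMap.range δ) = 0 := by omega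
  have h6 : LinearMap.range δ = ⊥ := Submodule.finrank_eq_zero.mp h5
  exact LinearMap.range_eq_bot.mp h6

variable {P}

lemma weightMap_mem_K (e : RootPairing.Equiv P P) {m : M} (hm : m ∈ K P) : e.weightMap m ∈ K P := by
  rw [mem_K] at hm ⊢
  intro a
  have h1 := RootPairing.Hom.weight_coweight_transpose_apply P P (P.coroot a) e.toHom
  have h2 : P.toLinearMap (e.weightMap m) (P.coroot a) = P.toLinearMap m (e.coweightMap (P.coroot a)) :=
    LinearMap.congr_fun h1 m
  have h3 := RootPairing.Hom.coroot_coweightMap_apply P P a e.toHom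
  rw [h2]
  have h4 : e.coweightMap (P.coroot a) = P.coroot (e.indexEquiv.symm a) := h3
  rw [h4]
  exact hm _

variable {P : RootPairing idx ℤ M (Module.Dual ℤ M)}

/-- if the corank is at most one there are finitely many automorphisms of the root datum -/
theorem finite_of_le (h : finrank ℤ M ≤ finrank ℤ (P.rootSpan ℤ) + 1) : Finite (RootPairing.Equiv P P) := by
  have hK : finrank ℤ (K P) ≤ 1 := by
    have := finrank_K P
    omega
  obtain ⟨v, hv⟩ := (finrank_le_one_iff (K := ℤ) (V := K P)).mp hK
  -- the sign by which `e` acts on `K`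
  have hsign : ∀ e : RootPairing.Equiv P P, e.weightMap (v : M) = (v : M) ∨ e.weightMap (v : M) = -(v : M) := by
    intro e
    obtain ⟨c, hc⟩ := hv ⟨e.weightMap v, weightMap_mem_K e v.2⟩
    have hc' : c • (v : M) = e.weightMap v := congrArg Subtype.val hc
    let e' := RootPairing.Equiv.symm P P e
    obtain ⟨d, hd⟩ := hv ⟨e'.weightMap v, weightMap_mem_K e' v.2⟩
    have hd' : d • (v : M) = e'.weightMap v := congrArg Subtype.val hd
    have h1 : e.weightMap (e'.weightMap (v : M)) = v :=
      RootPairing.Equiv.weightMap_weightEquiv_symm P P e _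
    rw [← hd', map_zsmul, ← hc', smul_smul] at h1
    by_cases hv0 : (v : M) = 0
    · left
      rw [hv0, map_zero]
    · have h2 : (d * c - 1) • (v : M) = 0 := by rw [sub_smul, one_smul, h1, sub_self]
      have h3 : d * c - 1 = 0 := (smul_eq_zero.mp h2).resolve_right hv0
      have h4 : c * d = 1 := by rw [mul_comm]; omega
      rcases Int.eq_one_or_neg_one_of_mul_eq_one h4 with h5 | h5
      · left; rw [← hc', h5, one_smul]
      · right; rw [← hc', h5, neg_smul, one_smul]
  classical
  refine Finite.of_injective (β := (idx → idx) × Prop)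
    (fun e => (fun i => e.indexEquiv i, e.weightMap (v : M) = (v : M))) ?_
  intro e₁ e₂ h12
  simp only [Prod.mk.injEq, eq_iff_iff] at h12
  obtain ⟨h12, h12'⟩ := h12
  have hv12 : e₁.weightMap (v : M) = e₂.weightMap (v : M) := by
    by_cases h1 : e₁.weightMap (v : M) = (v : M)
    · rw [h1, h12'.mp h1]
    · rw [(hsign e₁).resolve_left h1, (hsign e₂).resolve_left (fun h2 => h1 (h12'.mpr h2))]
  apply IsomComb.equiv_ext
  intro m
  have h0 := eq_zero_of_vanish P (e₁.weightMap - e₂.weightMap) (fun a => by
    rw [LinearMap.sub_apply, RootPairing.Hom.root_weightMap_apply, RootPairing.Hom.root_weightMap_apply]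
    have : e₁.indexEquiv a = e₂.indexEquiv a := congrFun h12 a
    rw [this, sub_self]) (fun m hm => by
    obtain ⟨c, hc⟩ := hv ⟨m, hm⟩
    have hc' : c • (v : M) = m := congrArg Subtype.val hc
    rw [← hc', LinearMap.sub_apply, map_zsmul, map_zsmul, hv12, sub_self])
  have h1 := LinearMap.congr_fun h0 m
  rwa [LinearMap.sub_apply, LinearMap.zero_apply, sub_eq_zero] at h1

/-- if the corank is at least two there are infinitely many automorphisms of the root datum respecting a base -/
theorem le_of_finite (hP : P.toLinearMap = Module.Dual.eval ℤ M) (b : P.Base)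
    (h : Finite {e : RootPairing.Equiv P P // ∀ a, a ∈ b.support ↔ e.indexEquiv a ∈ b.support}) :
    finrank ℤ M ≤ finrank ℤ (P.rootSpan ℤ) + 1 := by
  by_contra hlt
  rw [not_le] at hlt
  have hK := finrank_K P
  have hK' := finrank_K P.flip
  have h3 : finrank ℤ (P.flip.rootSpan ℤ) = finrank ℤ (P.rootSpan ℤ) := P.finrank_corootSpan_eq'
  have h4 : finrank ℤ (Module.Dual ℤ M) = finrank ℤ M := by
    simpa using (LinearEquiv.finrank_eq (Module.Free.chooseBasis ℤ M).toDualEquiv).symm
  rw [h3, h4] at hK'
  -- a functional vanishing on the roots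
  have hφ : ∃ φ ∈ K P.flip, φ ≠ 0 := by
    apply Submodule.exists_mem_ne_zero_of_ne_bot
    intro hbot
    rw [hbot, finrank_bot] at hK'
    omega
  obtain ⟨φ, hφ, hφ0⟩ := hφ
  rw [mem_K] at hφ
  have hφ' : ∀ a, φ (P.root a) = 0 := by
    intro a
    have h5 : P.toLinearMap (P.root a) φ = 0 := hφ a
    rw [hP] at h5
    exact h5
  -- an element of `K` killed by `φ`
  have hm : ∃ m ∈ K P, m ≠ 0 ∧ φ m = 0 := by
    have h5 := rank_nullity (φ ∘ₗ (K P).subtype)
    have h6 : finrank ℤ (LinearMap.range (φ ∘ₗ (K P).subtype)) ≤ 1 := by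
      have := Submodule.finrank_le (LinearMap.range (φ ∘ₗ (K P).subtype))
      rwa [finrank_self] at this
    have h7 : LinearMap.ker (φ ∘ₗ (K P).subtype) ≠ ⊥ := by
      intro h8
      rw [h8, finrank_bot] at h5
      omega
    obtain ⟨m, hm, hm0⟩ := Submodule.exists_mem_ne_zero_of_ne_bot h7
    exact ⟨m, m.2, fun h => hm0 (Subtype.ext h), hm⟩
  obtain ⟨m, hmK, hm0, hφm⟩ := hm
  rw [mem_K] at hmK
  have hmK' : ∀ a, P.coroot a m = 0 := by
    intro a
    have h5 := hmK a
    rw [hP] at h5
    exact h5
  let T : ℤ → (M →ₗ[ℤ] M) := fun n => LinearMap.id + (n • φ).smulRight m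
  have hT : ∀ n x, T n x = x + (n * φ x) • m := fun n x => by
    simp [T]
  let θ : ℤ → (M ≃ₗ[ℤ] M) := fun n => LinearEquiv.ofLinearMap (T n) (T (-n))
    (by ext x; simp [hT, hφm]) (by ext x; simp [hT, hφm])
  have hθ : ∀ n x, θ n x = x + (n * φ x) • m := hT
  let E : ℤ → {e : RootPairing.Equiv P P // ∀ a, a ∈ b.support ↔ e.indexEquiv a ∈ b.support} := fun n =>
    ⟨IsomComb.mkEquiv hP hP (θ n) (Equiv.refl idx) (fun i => by
      rw [hθ, hφ', mul_zero, zero_smul, add_zero]; rfl) (fun i x => by
      rw [hθ, map_add, map_zsmul, Equiv.refl_apply, hmK', smul_zero, add_zero]), fun a => Iff.rfl⟩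
  have hinj : Function.Injective E := by
    intro n n' hn
    obtain ⟨x, hx⟩ : ∃ x, φ x ≠ 0 := by
      by_contra hcon
      push Not at hcon
      exact hφ0 (LinearMap.ext hcon)
    have h8 : θ n x = θ n' x := congrArg (fun e => e.1.weightMap x) hn
    rw [hθ, hθ, add_right_inj] at h8
    have h9 : (n * φ x - n' * φ x) • m = 0 := by rw [sub_smul, h8, sub_self]
    have h10 := (smul_eq_zero.mp h9).resolve_right hm0
    rw [← sub_mul] at h10
    have := (mul_eq_zero.mp h10).resolve_right hx
    omega
  exact not_finite_iff_infinite.mpr (Infinite.of_injective E hinj) h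

end

end K544.RankComb
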