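import Groth.Agent.AutFam.K544.SplitLoc
import Groth.Agent.AutFam.K544.PinPair
import Groth.Agent.Sga3.H816.HomTorAsm
import Groth.Agent.Sga3.H816.HomTorOf
import Groth.Agent.Sga3.H818.Glue
import Groth.Agent.Sga3B.SplitBc264b

/-!
# Homomorphisms from a reductive group

`exists_rep_connected`: `Hom_{S-gr}(G, H)` is representable for `G` reductive and `H` smooth, separated and
quasi-compact over `S` with connected affine fibres.
-/

set_option autoImplicit false
open CategoryTheory MonoidalCategory CartesianMonoidalCategory MonObj GrpObj AlgebraicGeometry Limits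
universe u

namespace K544.RedLoc

open K544.RepQ K544.SplitLoc Groth.Agent.Sga3B Groth.Agent.Sga3.H816.AffFibStage Groth.Agent.Sga3.H816.HomTorAsm

/-- **`Hom_{S-gr}(G, H)` is representable** for `G` reductive and `H` smooth, separated and quasi-compact over `S` with
connected affine fibres. -/
theorem exists_rep_connected {S : Scheme.{u}} (G H : Over S) [GrpObj G] [GrpObj H] (hG : Red.IsReductive G)
    [Smooth H.hom] [IsSeparated H.hom] [QuasiCompact H.hom] [GeometricallyIrreducible H.hom] (haff : Fib H.hom) :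
    ∃ (A : Over S) (υ : G ⊗ A ⟶ H), AutFam.RepresentsHom G H A υ ∧ LocallyOfFinitePresentation A.hom ∧
      IsSeparated A.hom := by
  refine K544.RepQ.exists_of_etale G H fun s => ?_
  obtain ⟨R, v, hv, ⟨t, ht⟩, ⟨D⟩⟩ := K544.PinPair.exists_pinning hG s
  have i1 : Smooth (Red.bc v H).hom := inferInstanceAs (Smooth (pullback.snd H.hom v))
  have i2 : IsSeparated (Red.bc v H).hom := inferInstanceAs (IsSeparated (pullback.snd H.hom v))
  have i3 : QuasiCompact (Red.bc v H).hom := inferInstanceAs (QuasiCompact (pullback.snd H.hom v))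
  have i4 : GeometricallyIrreducible (Red.bc v H).hom :=
    inferInstanceAs (GeometricallyIrreducible (pullback.snd H.hom v))
  obtain ⟨C, iC, w, hw, ⟨z, hz⟩, h1⟩ := exists_rep_spec Groth.Agent.Sga3.H818.Glue.splitCase
    Groth.Agent.Sga3.H816.HomTorOf.models (Red.bc v H) (haff.snd v) (Module.finrank ℤ D.M) t
  have j1 : Smooth (Red.bc w (Red.bc v H)).hom := inferInstanceAs (Smooth (pullback.snd (Red.bc v H).hom w))
  have j2 : IsSeparated (Red.bc w (Red.bc v H)).hom :=
    inferInstanceAs (IsSeparated (pullback.snd (Red.bc v H).hom w))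
  refine ⟨_, w ≫ v, inferInstance, ⟨z, ?_⟩, ?_⟩
  · rw [Scheme.Hom.comp_apply, hz]
    exact ht
  · exact RepQ.of_grpIso (BcIso.bcCompIso w v G) (BcIso.bcCompIso w v H).symm
      (repQ_of_rep (SplitBc264.splitBc w D.toSplitRed) D.base
        ((Module.finBasis ℤ D.M).equivFun.toAddEquiv) h1)

end K544.RedLoc
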