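import Groth.Agent.AutFam.K544.QAff
import Groth.Agent.Sga3B.RepDescent9
import Groth.Agent.Sga3B.BcIso

/-!
# Representability of `Hom_{S-gr}(G, H)` by schemes with quasi-affine quasi-compact opens

`RepQ G H`: `Hom_{S-gr}(G, H)` is representable by a separated scheme locally of finite presentation all of whose
quasi-compact opens are quasi-affine.

* `RepQ.of_grpIso`: transport along isomorphisms;
* `exists_of_etale`: étale descent.
-/

set_option autoImplicit false

universe u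

open CategoryTheory MonoidalCategory CartesianMonoidalCategory MonObj GrpObj AlgebraicGeometry Limits

namespace K544.RepQ

open Groth.Agent.Sga3B K544.QAff

variable {S : Scheme.{u}}

/-- `Hom_{S-gr}(G, H)` is representable by a separated scheme locally of finite presentation whose quasi-compact opens
are quasi-affine. -/
def RepQ (G H : Over S) [GrpObj G] [GrpObj H] : Prop :=
  ∃ (A : Over S) (υ : G ⊗ A ⟶ H), AutFam.RepresentsHom G H A υ ∧ LocallyOfFinitePresentation A.hom ∧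
    IsSeparated A.hom ∧ LQA A.left

/-- Transport along an isomorphism of the source. -/
theorem representsHom_left {T T' G : Over S} [GrpObj T] [GrpObj T'] [GrpObj G] (e : T' ≅ T) [IsMonHom e.hom]
    {A : Over S} {υ : T ⊗ A ⟶ G} (h1 : AutFam.RepresentsHom T G A υ) :
    AutFam.RepresentsHom T' G A ((e.hom ▷ A) ≫ υ) := by
  have key (X : Over S) (φ : T' ⊗ X ⟶ G) (hφ : AutFam.IsHomFamily T' G φ) :
      AutFam.IsHomFamily T G ((e.inv ▷ X) ≫ φ) := by
    intro Y g₁ g₂ t
    have h5 := hφ Y (g₁ ≫ e.inv) (g₂ ≫ e.inv) t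
    rw [← MonObj.mul_comp] at h5
    simpa only [← Category.assoc, lift_whiskerRight] using h5
  refine ⟨?_, ?_⟩
  · intro Y g₁ g₂ t
    have h5 := h1.1 Y (g₁ ≫ e.hom) (g₂ ≫ e.hom) t
    rw [← MonObj.mul_comp] at h5
    simpa only [← Category.assoc, lift_whiskerRight] using h5
  · intro X φ hφ
    obtain ⟨a, ha, hau⟩ := h1.2 X _ (key X φ hφ)
    refine ⟨a, ?_, fun b hb => hau b ?_⟩
    · change (T' ◁ a) ≫ (e.hom ▷ A) ≫ υ = φ
      have ha' : (T ◁ a) ≫ υ = (e.inv ▷ X) ≫ φ := ha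
      rw [whisker_exchange_assoc, ha', ← comp_whiskerRight_assoc, e.hom_inv_id, id_whiskerRight, Category.id_comp]
    · change (T ◁ b) ≫ υ = (e.inv ▷ X) ≫ φ
      have hb' : (T' ◁ b) ≫ (e.hom ▷ A) ≫ υ = φ := hb
      rw [← hb', whisker_exchange_assoc, ← comp_whiskerRight_assoc, e.inv_hom_id, id_whiskerRight,
        Category.id_comp]

/-- Transport along an isomorphism of the target. -/
theorem representsHom_right {T G G' : Over S} [GrpObj T] [GrpObj G] [GrpObj G'] (e : G ≅ G') [IsMonHom e.hom]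
    {A : Over S} {υ : T ⊗ A ⟶ G} (h1 : AutFam.RepresentsHom T G A υ) :
    AutFam.RepresentsHom T G' A (υ ≫ e.hom) := by
  refine ⟨?_, ?_⟩
  · intro Y g₁ g₂ t
    have := h1.1 Y g₁ g₂ t
    rw [← Category.assoc, this, MonObj.mul_comp, Category.assoc, Category.assoc]
  · intro X φ hφ
    have hφ' : AutFam.IsHomFamily T G (φ ≫ e.inv) := by
      intro Y g₁ g₂ t
      rw [← cancel_mono e.hom, MonObj.mul_comp]
      simpa using hφ Y g₁ g₂ t
    obtain ⟨a, ha, hau⟩ := h1.2 X _ hφ'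
    refine ⟨a, ?_, fun b hb => hau b ?_⟩
    · change (T ◁ a) ≫ υ ≫ e.hom = φ
      have ha' : (T ◁ a) ≫ υ = φ ≫ e.inv := ha
      rw [← Category.assoc, ha']
      simp
    · change (T ◁ b) ≫ υ = φ ≫ e.inv
      have hb' : (T ◁ b) ≫ υ ≫ e.hom = φ := hb
      rw [← hb']
      simp

/-- Transport along isomorphisms of group schemes. -/
theorem RepQ.of_grpIso {T T' G G' : Over S} [GrpObj T] [GrpObj T'] [GrpObj G] [GrpObj G']
    (e : Grp.mk T' ≅ Grp.mk T) (f : Grp.mk G ≅ Grp.mk G') (h : RepQ T G) : RepQ T' G' := by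
  obtain ⟨A, υ, h1, h2, h3, h4⟩ := h
  let e' : T' ≅ T := (Grp.forget _).mapIso e
  let f' : G ≅ G' := (Grp.forget _).mapIso f
  have i1 : IsMonHom e'.hom := inferInstanceAs (IsMonHom e.hom.hom.hom)
  have i2 : IsMonHom f'.hom := inferInstanceAs (IsMonHom f.hom.hom.hom)
  exact ⟨A, _, representsHom_right f' (representsHom_left e' h1), h2, h3, h4⟩

/-- **Étale descent.** -/
theorem exists_of_etale (G H : Over S) [GrpObj G] [GrpObj H]
    (h : ∀ s : S, ∃ (V : Scheme.{u}) (v : V ⟶ S), Etale v ∧ s ∈ Set.range v ∧ RepQ (Red.bc v G) (Red.bc v H)) :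
    ∃ (A : Over S) (υ : G ⊗ A ⟶ H), AutFam.RepresentsHom G H A υ ∧ LocallyOfFinitePresentation A.hom ∧
      IsSeparated A.hom := by
  obtain ⟨A, υ, hA⟩ := RepDescent.exists_representsHom_of_etale G H (by
    intro s
    obtain ⟨V, v, hv, hs, A, υ, hA, -, -, hq⟩ := h s
    exact ⟨V, v, hv, hs, A, υ, hA, hq⟩)
  refine ⟨A, υ, hA, ?_, ?_⟩
  · refine RepDescent.prop_of_representsHom @LocallyOfFinitePresentation hA fun s => ?_
    obtain ⟨V, v, hv, hs, A, υ, hA, hP, -, -⟩ := h s
    exact ⟨V, v, hv, hs, A, υ, hA, hP⟩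
  · refine RepDescent.prop_of_representsHom @IsSeparated hA fun s => ?_
    obtain ⟨V, v, hv, hs, A, υ, hA, -, hP, -⟩ := h s
    exact ⟨V, v, hv, hs, A, υ, hA, hP⟩

end K544.RepQ
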