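import Groth.Agent.AutFam.K544.WeilClosed
import Groth.Agent.AutFam.K544.GmGa
import Groth.Agent.Sga3.H817.CentRepProj
import Groth.Agent.RedSub.H635.GaSm

/-!
# Equivariant families of homomorphisms from `𝔾_a`

`T`, `H` are `S`-groups, `α : T ⟶ 𝔾_m` a faithfully flat character with kernel `κ : K ⟶ T`, `f : T ⊗ B ⟶ H` a family of
homomorphisms.  The families `w : 𝔾_a ⊗ Y ⟶ H` of homomorphisms over a point `b : Y ⟶ B` with
`f(t) w(x) f(t)⁻¹ = w(α(t) x)` are represented by a closed subscheme of `B ⊗ H`.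
-/

set_option autoImplicit false
open CategoryTheory MonoidalCategory CartesianMonoidalCategory MonObj GrpObj AlgebraicGeometry Limits
universe u

namespace K544.RootClosed

open K544.GenPt K544.WeilExt K544.WeilClosed K544.GmGa Groth.Agent.Sga3B.GaPts Groth.Agent.Sga3.H811.Pts
  Groth.Agent.Sga3.H817.WeilProj Groth.Agent.Sga3.H774.FppfSheaf

variable {S : Scheme.{u}}

/-- scaling of points of `𝔾_a` -/
noncomputable def sc {X : Over S} (m : X ⟶ Red.Gm S) (x : X ⟶ Red.Ga S) : X ⟶ Red.Ga S :=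
  gaPt X (Red.gmFn m * Red.gaFn x)

lemma gaFn_sc {X : Over S} (m : X ⟶ Red.Gm S) (x : X ⟶ Red.Ga S) : Red.gaFn (sc m x) = Red.gmFn m * Red.gaFn x :=
  gaFn_gaPt _ _

lemma eq_sc {X : Over S} (m : X ⟶ Red.Gm S) (x x' : X ⟶ Red.Ga S) (h : Red.gaFn x' = Red.gmFn m * Red.gaFn x) :
    x' = sc m x := gaFn_injective _ (by rw [h, gaFn_sc])

lemma comp_sc {X X' : Over S} (h : X' ⟶ X) (m : X ⟶ Red.Gm S) (x : X ⟶ Red.Ga S) :
    h ≫ sc m x = sc (h ≫ m) (h ≫ x) := by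
  rw [sc, comp_gaPt, sc, gmFn_comp, gaFn_comp, map_mul]

lemma sc_mul {X : Over S} (m : X ⟶ Red.Gm S) (x y : X ⟶ Red.Ga S) : sc m (x * y) = sc m x * sc m y := by
  apply gaFn_injective
  rw [gaFn_mul, gaFn_sc, gaFn_sc, gaFn_sc, gaFn_mul, mul_add]

lemma sc_jm {X : Over S} (m n : X ⟶ Red.Gm S) : sc m (n ≫ jm S) = (m * n) ≫ jm S := by
  apply gaFn_injective
  rw [gaFn_sc, gaFn_jm, gaFn_jm, gmFn_mul]

lemma sc_one {X : Over S} (x : X ⟶ Red.Ga S) : sc 1 x = x := by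
  apply gaFn_injective
  rw [gaFn_sc, gmFn_one, _root_.one_mul]

/-- the point `1` of `𝔾_a` -/
noncomputable def one' (X : Over S) : X ⟶ Red.Ga S := (1 : X ⟶ Red.Gm S) ≫ jm S

lemma comp_one' {X X' : Over S} (h : X' ⟶ X) : h ≫ one' X = one' X' := by
  rw [one', one', ← Category.assoc, MonObj.comp_one]

lemma sc_one' {X : Over S} (m : X ⟶ Red.Gm S) : sc m (one' X) = m ≫ jm S := by
  rw [one', sc_jm]
  exact congrArg (fun k => k ≫ jm S) (_root_.mul_one m)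

/-- families of morphisms are determined by their values on points -/
lemma fam_ext {P X H : Over S} {ψ ψ' : P ⊗ X ⟶ H} (h : ∀ (Y : Over S) (x : Y ⟶ P) (t : Y ⟶ X),
    lift x t ≫ ψ = lift x t ≫ ψ') : ψ = ψ' := by
  have h1 := h (P ⊗ X) (fst P X) (snd P X)
  have e : lift (fst P X) (snd P X) = 𝟙 (P ⊗ X) := by
    apply CartesianMonoidalCategory.hom_ext <;> simp
  rwa [e, Category.id_comp, Category.id_comp] at h1

lemma isPullback_whiskerRight {P Q : Over S} (v : P ⟶ Q) (X : Over S) :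
    IsPullback (v ▷ X).left (fst P X).left (fst Q X).left v.left := by
  have h5 : IsPullback (v ▷ X) (fst P X) (fst Q X) v := by
    refine ⟨⟨whiskerRight_fst _ _⟩, ⟨PullbackCone.IsLimit.mk _
      (fun c => lift c.snd (c.fst ≫ snd Q X)) (fun c => ?_) (fun c => lift_fst _ _) (fun c m h1 h2 => ?_)⟩⟩
    · rw [lift_whiskerRight]
      apply CartesianMonoidalCategory.hom_ext
      · rw [lift_fst, c.condition]
      · rw [lift_snd]
    · apply CartesianMonoidalCategory.hom_ext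
      · rw [lift_fst, ← h2]
      · rw [lift_snd, ← h1, Category.assoc, whiskerRight_snd]
  exact h5.map (Over.forget S)

variable {T K H : Over S} [GrpObj T] [GrpObj H]

/-- `w` is equivariant under `T` acting through `f` on `H` and through `α` on `𝔾_a` -/
def Equi (α : T ⟶ Red.Gm S) {Y : Over S} (f : T ⊗ Y ⟶ H) (w : Red.Ga S ⊗ Y ⟶ H) : Prop :=
  ∀ (X : Over S) (t : X ⟶ T) (x : X ⟶ Red.Ga S) (y : X ⟶ Y),
    (lift t y ≫ f) * (lift x y ≫ w) * (lift t y ≫ f)⁻¹ = lift (sc (t ≫ α) x) y ≫ w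

variable (α : T ⟶ Red.Gm S) [IsMonHom α]

lemma α_mul {X : Over S} (t t' : X ⟶ T) : (t * t') ≫ α = (t ≫ α) * (t' ≫ α) := MonObj.mul_comp t t' α

lemma α_one {X : Over S} : (1 : X ⟶ T) ≫ α = 1 := MonObj.one_comp α

lemma α_inv_mul {X : Over S} (t t' : X ⟶ T) (h : t ≫ α = t' ≫ α) : (t⁻¹ * t') ≫ α = 1 := by
  have h1 := α_mul α t⁻¹ t'
  have h2 : t⁻¹ ≫ α = (t ≫ α)⁻¹ := GrpObj.inv_comp t α
  rw [h1, h2, h]
  exact inv_mul_cancel _

omit [GrpObj T] [IsMonHom α] in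
lemma epi_whiskerRight (h1 : Surjective α.left) (h2 : Flat α.left) (X : Over S) : Epi (α ▷ X) := by
  have h3 : Surjective (α ▷ X).left :=
    MorphismProperty.of_isPullback (P := @Surjective) (isPullback_whiskerRight α X).flip h1
  have h4 : Flat (α ▷ X).left :=
    MorphismProperty.of_isPullback (P := @Flat) (isPullback_whiskerRight α X).flip h2
  exact epi_of_cover _ h3 h4

omit [GrpObj T] in
/-- inner conjugation of a family by a family -/
noncomputable def θ {B : Over S} (f : T ⊗ B ⟶ H) (h : B ⟶ H) : T ⊗ B ⟶ H := f * (snd T B ≫ h) * f⁻¹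

omit [GrpObj T] in
lemma lift_θ {B : Over S} (f : T ⊗ B ⟶ H) (h : B ⟶ H) {X : Over S} (t : X ⟶ T) (b : X ⟶ B) :
    lift t b ≫ θ f h = (lift t b ≫ f) * (b ≫ h) * (lift t b ≫ f)⁻¹ := by
  rw [θ, MonObj.comp_mul, MonObj.comp_mul, GrpObj.comp_inv, ← Category.assoc (lift t b) (snd T B), lift_snd]

lemma hom_one {P B : Over S} [GrpObj P] {f : P ⊗ B ⟶ H} (hf : AutFam.IsHomFamily P H f) {X : Over S} (b : X ⟶ B) :
    lift (1 : X ⟶ P) b ≫ f = 1 := by
  have h1 := hf X 1 1 b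
  rw [_root_.mul_one] at h1
  exact mul_left_cancel (a := lift (1 : X ⟶ P) b ≫ f) (by rw [_root_.mul_one]; exact h1.symm)

lemma hom_inv {P B : Over S} [GrpObj P] {f : P ⊗ B ⟶ H} (hf : AutFam.IsHomFamily P H f) {X : Over S} (g : X ⟶ P)
    (b : X ⟶ B) : lift g⁻¹ b ≫ f = (lift g b ≫ f)⁻¹ := by
  have h1 := hf X g⁻¹ g b
  rw [inv_mul_cancel, hom_one hf] at h1
  exact eq_inv_of_mul_eq_one_left h1.symm

/-- The representing object. -/
theorem exists_rep (h1 : Surjective α.left) (h2 : Flat α.left) (h3 : LocallyOfFinitePresentation α.left)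
    (κ : K ⟶ T) (hK : LocProj K.hom) [QuasiCompact K.hom]
    (hκ : ∀ (X : Over S) (t : X ⟶ T), t ≫ α = 1 ↔ ∃ k : X ⟶ K, k ≫ κ = t)
    [IsSeparated H.hom] [LocallyOfFinitePresentation H.hom] [GeometricallyIrreducible (Red.Ga S).hom]
    {B : Over S} (f : T ⊗ B ⟶ H) (hf : AutFam.IsHomFamily T H f) :
    ∃ (C : Over S) (p : C ⟶ B) (v : Red.Ga S ⊗ C ⟶ H), LocallyOfFinitePresentation p.left ∧ IsSeparated p.left ∧
      AutFam.IsHomFamily (Red.Ga S) H v ∧ Equi α ((T ◁ p) ≫ f) v ∧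
      ∀ (Y : Over S) (b : Y ⟶ B) (w : Red.Ga S ⊗ Y ⟶ H), AutFam.IsHomFamily (Red.Ga S) H w →
        Equi α ((T ◁ b) ≫ f) w → ∃! c : Y ⟶ C, c ≫ p = b ∧ (Red.Ga S ◁ c) ≫ v = w := by
  have hgs : Smooth (Red.Ga S).hom := Groth.Agent.RedSub.H635.GaSm.smooth_ga
  have hη := isClosedImmersion_eta H
  -- the locus where the kernel centralises `h`
  obtain ⟨C₁, z₁, hz1, hz2, hz3⟩ := Groth.Agent.Sga3.H817.CentRepProj.exists_closed_map (X := B ⊗ H) (Q := K) hK
    ((lift (snd (B ⊗ H) K ≫ κ) (fst (B ⊗ H) K ≫ fst B H) ≫ f) * (fst (B ⊗ H) K ≫ snd B H) *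
      (lift (snd (B ⊗ H) K ≫ κ) (fst (B ⊗ H) K ≫ fst B H) ≫ f)⁻¹ * (fst (B ⊗ H) K ≫ snd B H)⁻¹) η[H]
  have hz4 : LocallyOfFinitePresentation z₁.left := hz3 inferInstance (lfp_eta H)
  have key₁ : ∀ (Y : Over S) (a : Y ⟶ B ⊗ H), (∃ c : Y ⟶ C₁, c ≫ z₁ = a) ↔
      ∀ (Y' : Over S) (y : Y' ⟶ Y) (k : Y' ⟶ K),
        (lift (k ≫ κ) (y ≫ a ≫ fst B H) ≫ f) * (y ≫ a ≫ snd B H) * (lift (k ≫ κ) (y ≫ a ≫ fst B H) ≫ f)⁻¹ =
          y ≫ a ≫ snd B H := by
    intro Y a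
    rw [hz2]
    refine forall_congr' fun Y' => forall_congr' fun y => forall_congr' fun k => ?_
    rw [factors_eta_iff, MonObj.comp_mul, MonObj.comp_mul, MonObj.comp_mul, GrpObj.comp_inv, GrpObj.comp_inv,
      ← Category.assoc (lift (y ≫ a) k), comp_lift, ← Category.assoc (lift (y ≫ a) k),
      ← Category.assoc (lift (y ≫ a) k), ← Category.assoc (lift (y ≫ a) k), lift_fst, lift_snd,
      mul_inv_eq_one, Category.assoc, Category.assoc]
  let b₁ : C₁ ⟶ B := z₁ ≫ fst B H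
  let h₁ : C₁ ⟶ H := z₁ ≫ snd B H
  let f₁ : T ⊗ C₁ ⟶ H := (T ◁ b₁) ≫ f
  have hf₁ : ∀ {X : Over S} (t : X ⟶ T) (c : X ⟶ C₁), lift t c ≫ f₁ = lift t (c ≫ b₁) ≫ f := by
    intro X t c
    change lift t c ≫ (T ◁ b₁) ≫ f = _
    rw [← Category.assoc, lift_whiskerLeft]
  have hk₁ : ∀ {X : Over S} (k : X ⟶ T) (hk : k ≫ α = 1) (c : X ⟶ C₁),
      (lift k c ≫ f₁) * (c ≫ h₁) * (lift k c ≫ f₁)⁻¹ = c ≫ h₁ := by
    intro X k hk c
    obtain ⟨k', rfl⟩ := (hκ X k).mp hk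
    have h5 := (key₁ C₁ z₁).mp ⟨𝟙 _, Category.id_comp _⟩ X c k'
    rw [hf₁]
    exact h5
  -- descend along `α`
  have hs1 : Surjective (α ▷ C₁).left :=
    MorphismProperty.of_isPullback (P := @Surjective) (isPullback_whiskerRight α C₁).flip h1
  have hs2 : Flat (α ▷ C₁).left :=
    MorphismProperty.of_isPullback (P := @Flat) (isPullback_whiskerRight α C₁).flip h2
  have hs3 : LocallyOfFinitePresentation (α ▷ C₁).left :=
    MorphismProperty.of_isPullback (P := @LocallyOfFinitePresentation) (isPullback_whiskerRight α C₁).flip h3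
  have hf₁' : AutFam.IsHomFamily T H f₁ := by
    intro X g₁ g₂ t
    rw [hf₁, hf₁, hf₁, hf]
  obtain ⟨g, hg⟩ := exists_desc (α ▷ C₁) hs1 hs2 hs3 (θ f₁ h₁) (fun R a b hab => by
    have ha : a = lift (a ≫ fst T C₁) (a ≫ snd T C₁) := by
      apply CartesianMonoidalCategory.hom_ext <;> simp
    have hb : b = lift (b ≫ fst T C₁) (b ≫ snd T C₁) := by
      apply CartesianMonoidalCategory.hom_ext <;> simp
    have hab1 : (a ≫ fst T C₁) ≫ α = (b ≫ fst T C₁) ≫ α := by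
      have := congrArg (· ≫ fst (Red.Gm S) C₁) hab
      simpa only [Category.assoc, whiskerRight_fst] using this
    have hab2 : a ≫ snd T C₁ = b ≫ snd T C₁ := by
      have := congrArg (· ≫ snd (Red.Gm S) C₁) hab
      simpa only [Category.assoc, whiskerRight_snd] using this
    rw [ha, hb, lift_θ, lift_θ, ← hab2]
    have h6 : ((a ≫ fst T C₁)⁻¹ * (b ≫ fst T C₁)) ≫ α = 1 := α_inv_mul α _ _ hab1
    have h7 := hk₁ _ h6 (a ≫ snd T C₁)
    rw [hf₁', hom_inv hf₁'] at h7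
    have h8 := congrArg (fun k => (lift (a ≫ fst T C₁) (a ≫ snd T C₁) ≫ f₁) * k *
      (lift (a ≫ fst T C₁) (a ≫ snd T C₁) ≫ f₁)⁻¹) h7
    rw [← h8]
    group)
  have hg' : ∀ {X : Over S} (t : X ⟶ T) (c : X ⟶ C₁), lift (t ≫ α) c ≫ g =
      (lift t c ≫ f₁) * (c ≫ h₁) * (lift t c ≫ f₁)⁻¹ := by
    intro X t c
    rw [← lift_whiskerRight, Category.assoc, hg, lift_θ]
  -- the locus where `g` extends to a family of homomorphisms
  obtain ⟨C, z₂, hy1, hy2, hy3⟩ := exists_closed_hom (G := Red.Ga S) (H := H) (jm S) g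
  obtain ⟨v, hv, hvg⟩ := (hy3 C z₂).mp ⟨𝟙 _, Category.id_comp _⟩
  have hvα : ∀ {X : Over S} (m : X ⟶ Red.Gm S) (c : X ⟶ C), lift (m ≫ jm S) c ≫ v = lift m (c ≫ z₂) ≫ g := by
    intro X m c
    rw [← lift_whiskerRight, Category.assoc, hvg, ← Category.assoc, lift_whiskerLeft]
  have hv1 : ∀ {X : Over S} (c : X ⟶ C), lift (one' X) c ≫ v = c ≫ z₂ ≫ h₁ := by
    intro X c
    have h5 : (1 : X ⟶ T) ≫ α = 1 := MonObj.one_comp α
    rw [one', hvα, ← h5, hg', hom_one hf₁']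
    simp
  have hp : ∀ {X : Over S} (t : X ⟶ T) (c : X ⟶ C), lift t c ≫ (T ◁ (z₂ ≫ b₁)) ≫ f = lift t (c ≫ z₂) ≫ f₁ := by
    intro X t c
    rw [hf₁, ← Category.assoc, lift_whiskerLeft, Category.assoc]
  have hmono₁ : Mono z₁ := Over.mono_of_mono_left z₁
  have hmono₂ : Mono z₂ := Over.mono_of_mono_left z₂
  refine ⟨C, z₂ ≫ b₁, v, ?_, ?_, hv, ?_, ?_⟩
  · have : LocallyOfFinitePresentation (fst B H).left :=
      inferInstanceAs (LocallyOfFinitePresentation (pullback.fst B.hom H.hom))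
    change LocallyOfFinitePresentation (z₂.left ≫ z₁.left ≫ (fst B H).left)
    infer_instance
  · have : IsSeparated (fst B H).left :=
      inferInstanceAs (IsSeparated (pullback.fst B.hom H.hom))
    change IsSeparated (z₂.left ≫ z₁.left ≫ (fst B H).left)
    infer_instance
  · -- equivariance
    intro X t x y
    let ψ₁ : Red.Ga S ⊗ X ⟶ H :=
      (lift (snd (Red.Ga S) X ≫ t) (snd (Red.Ga S) X ≫ y) ≫ (T ◁ (z₂ ≫ b₁)) ≫ f) *
        (lift (fst (Red.Ga S) X) (snd (Red.Ga S) X ≫ y) ≫ v) *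
        (lift (snd (Red.Ga S) X ≫ t) (snd (Red.Ga S) X ≫ y) ≫ (T ◁ (z₂ ≫ b₁)) ≫ f)⁻¹
    let ψ₂ : Red.Ga S ⊗ X ⟶ H :=
      lift (sc (snd (Red.Ga S) X ≫ t ≫ α) (fst (Red.Ga S) X)) (snd (Red.Ga S) X ≫ y) ≫ v
    have e₁ : ∀ {X' : Over S} (x' : X' ⟶ Red.Ga S) (s : X' ⟶ X), lift x' s ≫ ψ₁ =
        (lift (s ≫ t) (s ≫ y) ≫ (T ◁ (z₂ ≫ b₁)) ≫ f) * (lift x' (s ≫ y) ≫ v) *
        (lift (s ≫ t) (s ≫ y) ≫ (T ◁ (z₂ ≫ b₁)) ≫ f)⁻¹ := by
      intro X' x' s
      change lift x' s ≫ (_ * _ * _⁻¹) = _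
      rw [MonObj.comp_mul, MonObj.comp_mul, GrpObj.comp_inv, ← Category.assoc (lift x' s),
        ← Category.assoc (lift x' s), comp_lift, comp_lift, lift_fst, ← Category.assoc (lift x' s),
        ← Category.assoc (lift x' s), lift_snd]
    have e₂ : ∀ {X' : Over S} (x' : X' ⟶ Red.Ga S) (s : X' ⟶ X), lift x' s ≫ ψ₂ =
        lift (sc (s ≫ t ≫ α) x') (s ≫ y) ≫ v := by
      intro X' x' s
      change lift x' s ≫ lift _ _ ≫ v = _
      rw [← Category.assoc (lift x' s), comp_lift, comp_sc, lift_fst, ← Category.assoc (lift x' s),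
        ← Category.assoc (lift x' s), lift_snd]
    have hψ₁ : AutFam.IsHomFamily (Red.Ga S) H ψ₁ := by
      intro X' x₁ x₂ s
      rw [e₁, e₁, e₁, hv]
      group
    have hψ₂ : AutFam.IsHomFamily (Red.Ga S) H ψ₂ := by
      intro X' x₁ x₂ s
      rw [e₂, e₂, e₂, sc_mul, hv]
    have h5 : ψ₁ = ψ₂ := by
      refine hom_ext (j := jm S) hψ₁ hψ₂ ?_
      have h6 := epi_whiskerRight α h1 h2 X
      rw [← cancel_epi (α ▷ X)]
      refine fam_ext fun X' t' s => ?_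
      rw [← Category.assoc, ← Category.assoc, ← Category.assoc, ← Category.assoc, lift_whiskerRight,
        lift_whiskerRight, e₁, e₂, sc_jm, hvα, hvα, hp, hg']
      have e3 : (s ≫ t ≫ α) * (t' ≫ α) = ((s ≫ t) * t') ≫ α := by
        rw [α_mul, Category.assoc]
      rw [e3, hg', hf₁']
      group
    have h6 := e₁ x (𝟙 X)
    rw [h5, e₂] at h6
    simp only [Category.id_comp] at h6
    exact h6.symm
  · intro Y b w hw hwe
    let h : Y ⟶ H := lift (one' Y) (𝟙 Y) ≫ w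
    have hh : ∀ {X : Over S} (y : X ⟶ Y), y ≫ h = lift (one' X) y ≫ w := by
      intro X y
      change y ≫ lift _ _ ≫ w = _
      rw [← Category.assoc, comp_lift, comp_one', Category.comp_id]
    have hwe' : ∀ {X : Over S} (t : X ⟶ T) (x : X ⟶ Red.Ga S) (y : X ⟶ Y),
        (lift t (y ≫ b) ≫ f) * (lift x y ≫ w) * (lift t (y ≫ b) ≫ f)⁻¹ = lift (sc (t ≫ α) x) y ≫ w := by
      intro X t x y
      have h5 := hwe X t x y
      rwa [← Category.assoc, lift_whiskerLeft] at h5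
    obtain ⟨c₁, hc₁⟩ := (key₁ Y (lift b h)).mpr (by
      intro Y' y k
      rw [lift_fst, lift_snd, hh, hwe', (hκ _ _).mpr ⟨k, rfl⟩, sc_one])
    have hc₁b : c₁ ≫ b₁ = b := by
      change c₁ ≫ z₁ ≫ fst B H = b
      rw [← Category.assoc, hc₁, lift_fst]
    have hc₁h : c₁ ≫ h₁ = h := by
      change c₁ ≫ z₁ ≫ snd B H = h
      rw [← Category.assoc, hc₁, lift_snd]
    have hgw : (jm S ▷ Y) ≫ w = (Red.Gm S ◁ c₁) ≫ g := by
      have h6 := epi_whiskerRight α h1 h2 Y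
      rw [← cancel_epi (α ▷ Y)]
      refine fam_ext fun X' t' s => ?_
      have e4 : (s ≫ c₁) ≫ h₁ = s ≫ h := by rw [Category.assoc, hc₁h]
      have e5 : (s ≫ c₁) ≫ b₁ = s ≫ b := by rw [Category.assoc, hc₁b]
      rw [← Category.assoc, ← Category.assoc, ← Category.assoc, ← Category.assoc, lift_whiskerRight,
        lift_whiskerRight, lift_whiskerLeft, hg', hf₁, e4, e5, hh, hwe', sc_one']
    obtain ⟨c, hc⟩ := (hy3 Y c₁).mpr ⟨w, hw, hgw⟩
    refine ⟨c, ⟨?_, ?_⟩, ?_⟩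
    · change c ≫ z₂ ≫ b₁ = b
      rw [← Category.assoc, hc, hc₁b]
    · refine hom_ext (j := jm S) ?_ hw ?_
      · intro X' x₁ x₂ s
        rw [← Category.assoc, ← Category.assoc, ← Category.assoc, lift_whiskerLeft, lift_whiskerLeft,
          lift_whiskerLeft, hv]
      · rw [hgw]
        refine fam_ext fun X' m s => ?_
        rw [← Category.assoc, ← Category.assoc, ← Category.assoc, lift_whiskerRight, lift_whiskerLeft, hvα,
          lift_whiskerLeft, Category.assoc, hc]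
    · rintro c' ⟨hc'1, hc'2⟩
      rw [← cancel_mono z₂, ← cancel_mono z₁, hc]
      apply CartesianMonoidalCategory.hom_ext
      · rw [hc₁, lift_fst, Category.assoc, Category.assoc]
        exact hc'1
      · rw [hc₁, lift_snd, Category.assoc, Category.assoc]
        have h5 := hv1 c'
        change c' ≫ z₂ ≫ h₁ = h
        rw [← h5]
        have h6 := hh (𝟙 Y)
        rw [Category.id_comp] at h6
        rw [h6, ← hc'2, ← Category.assoc (lift _ _), lift_whiskerLeft, Category.id_comp]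

end K544.RootClosed
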