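import Groth.Agent.AutFam.K544.RootClosed
import Groth.Agent.AutFam.K544.DSProj
import Groth.Agent.Sga3.H827.DSFlat
import Groth.Prelude.Def_Red2

/-!
# Families of root homomorphisms over the scheme of homomorphisms of the torus

`D` is a splitting of `G`, `H` a separated group locally of finite presentation, `(A, υ)` represents the functor of
homomorphisms `D.T ⟶ H`.

* `kerChar`: the kernel of a root.
* `exists_roots`: for a list `L` of roots, families `f : T ⊗ Y ⟶ H`, `w a : 𝔾_a ⊗ Y ⟶ H` of homomorphisms with `w a`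
  equivariant for `a ∈ L` are represented by a scheme separated and locally of finite presentation over `A`.
-/

set_option autoImplicit false
open CategoryTheory MonoidalCategory CartesianMonoidalCategory MonObj GrpObj AlgebraicGeometry Limits
universe u

namespace K544.RootFold

open K544.GenPt K544.WeilExt K544.WeilClosed K544.GmGa K544.RootClosed Groth.Agent.Sga3B.DSPts Groth.Agent.Sga3B.GaPts
  Groth.Agent.Sga3.H811.Pts Groth.Agent.Sga3.H817.WeilProj

variable {S : Scheme.{u}}

section ker

variable {M : Type} [AddCommGroup M]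

/-- factorisation through `D(M/ℤa)` -/
lemma exists_factor (a : M) {X : Over S} (x : X ⟶ Red.DS S M) (hx : x ≫ Red.chi S a = 1) :
    ∃ y : X ⟶ Red.DS S (M ⧸ AddSubgroup.zmultiples a), y ≫ Red.DSmap S (QuotientAddGroup.mk' _) = x := by
  have hx' : dsChar x (Multiplicative.ofAdd a) = 1 := by
    rw [← gmFn_chi, hx]
    exact gmFn_one
  let χ : M →+ Additive Γ(X.left, ⊤)ˣ :=
    { toFun := fun m => Additive.ofMul
        ⟨dsChar x (Multiplicative.ofAdd m), dsChar x (Multiplicative.ofAdd (-m)), by
          rw [← map_mul, ← ofAdd_add, add_neg_cancel, ofAdd_zero, map_one], by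
          rw [← map_mul, ← ofAdd_add, neg_add_cancel, ofAdd_zero, map_one]⟩
      map_zero' := by
        apply Additive.toMul.injective
        ext
        exact map_one (dsChar x)
      map_add' := fun a b => by
        apply Additive.toMul.injective
        ext
        exact map_mul (dsChar x) (Multiplicative.ofAdd a) (Multiplicative.ofAdd b) }
  have hχa : χ a = 0 := by
    apply Additive.toMul.injective
    ext
    exact hx'
  have hχ : ∀ n ∈ AddSubgroup.zmultiples a, χ n = 0 := by
    rintro _ ⟨k, rfl⟩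
    change χ (k • a) = 0
    rw [map_zsmul, hχa, smul_zero]
  let χ' : (M ⧸ AddSubgroup.zmultiples a) →+ Additive Γ(X.left, ⊤)ˣ := QuotientAddGroup.lift _ χ hχ
  let ψ : Multiplicative (M ⧸ AddSubgroup.zmultiples a) →* Γ(X.left, ⊤) :=
    { toFun := fun m => ((χ' m.toAdd).toMul : Γ(X.left, ⊤)ˣ).1
      map_one' := by
        change ((χ' 0).toMul : Γ(X.left, ⊤)ˣ).1 = 1
        rw [map_zero]
        rfl
      map_mul' := fun a b => by
        change ((χ' (a.toAdd + b.toAdd)).toMul : Γ(X.left, ⊤)ˣ).1 = _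
        rw [map_add]
        rfl }
  refine ⟨dsEquiv X _ ψ, ?_⟩
  rw [dsEquiv_DSmap]
  apply (dsEquiv X M).symm.injective
  rw [MulEquiv.symm_apply_apply]
  rfl

lemma comp_chi_of_factor (a : M) {X : Over S} (y : X ⟶ Red.DS S (M ⧸ AddSubgroup.zmultiples a)) :
    (y ≫ Red.DSmap S (QuotientAddGroup.mk' _)) ≫ Red.chi S a = 1 := by
  apply gmFn_injective
  rw [gmFn_chi, gmFn_one, dsChar_DSmap]
  change dsChar y (Multiplicative.ofAdd (QuotientAddGroup.mk' _ a)) = 1
  have : QuotientAddGroup.mk' (AddSubgroup.zmultiples a) a = 0 :=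
    (QuotientAddGroup.eq_zero_iff a).2 (AddSubgroup.mem_zmultiples a)
  rw [this]
  exact map_one (dsChar y)

end ker

variable {G H : Over S} [GrpObj G] [GrpObj H] (D : Red.SplitRed G)

/-- the root as a character of the torus -/
noncomputable def al (a : D.idx) : D.T ⟶ Red.Gm S := D.split.hom.hom.hom ≫ Red.chi S (D.P.root a)

lemma isMonHom_DSmap {M N : Type} [AddCommGroup M] [AddCommGroup N] (φ : M →+ N) :
    IsMonHom (Red.DSmap S φ) := by
  refine Groth.Agent.Sga3B.Pts.isMonHom_of_points (G := Red.DS S N) (H := Red.DS S M) (Red.DSmap S φ) fun X x y => ?_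
  apply (dsEquiv X M).symm.injective
  change dsChar _ = dsChar _
  rw [dsChar_mul, dsChar_DSmap, dsChar_DSmap, dsChar_DSmap, dsChar_mul]
  rfl

instance isMonHom_chi {M : Type} [AddCommGroup M] (m : M) : IsMonHom (Red.chi S m) := isMonHom_DSmap _

instance isMonHom_al (a : D.idx) : IsMonHom (al D a) := by
  have h1 := isMonHom_chi (S := S) (D.P.root a)
  unfold al
  infer_instance

lemma quasiCompact_DS (M : Type) [AddCommGroup M] : QuasiCompact (Red.DS S M).hom := by
  have h1 : QuasiCompact (Red.diag (ULift.{u} ℤ) M).hom := by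
    change QuasiCompact (Spec.map (CommRingCat.ofHom (algebraMap (ULift.{u} ℤ)
      (MonoidAlgebra (ULift.{u} ℤ) (Multiplicative M)))))
    infer_instance
  exact MorphismProperty.pullback_snd (P := @QuasiCompact) _ _ h1

lemma lfp_DS (M : Type) [AddCommGroup M] [Module.Finite ℤ M] : LocallyOfFinitePresentation (Red.DS S M).hom := by
  have h1 : LocallyOfFinitePresentation (Red.diag (ULift.{u} ℤ) M).hom := by
    change LocallyOfFinitePresentation (Spec.map (CommRingCat.ofHom (algebraMap (ULift.{u} ℤ)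
      (MonoidAlgebra (ULift.{u} ℤ) (Multiplicative M)))))
    rw [HasRingHomProperty.Spec_iff (P := @LocallyOfFinitePresentation)]
    change (algebraMap (ULift.{u} ℤ) (MonoidAlgebra (ULift.{u} ℤ) (Multiplicative M))).FinitePresentation
    rw [RingHom.finitePresentation_algebraMap]
    have : AddGroup.FG M := by
      rw [← Module.Finite.iff_addGroup_fg]; infer_instance
    have h5 : Algebra.FiniteType (ULift.{u} ℤ) (MonoidAlgebra (ULift.{u} ℤ) (Multiplicative M)) := inferInstance
    have h6 : IsNoetherianRing (ULift.{u} ℤ) := isNoetherianRing_of_ringEquiv ℤ ULift.ringEquiv.symm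
    exact Algebra.FinitePresentation.of_finiteType.mp h5
  exact MorphismProperty.pullback_snd (P := @LocallyOfFinitePresentation) _ _ h1

/-- the inclusion of the kernel of a root -/
noncomputable def kap (a : D.idx) : Red.DS S (D.M ⧸ AddSubgroup.zmultiples (D.P.root a)) ⟶ D.T :=
  Red.DSmap S (QuotientAddGroup.mk' _) ≫ D.split.inv.hom.hom

lemma split_hom_inv : D.split.hom.hom.hom ≫ D.split.inv.hom.hom = 𝟙 D.T :=
  congrArg (fun f => f.hom.hom) D.split.hom_inv_id

lemma split_inv_hom : D.split.inv.hom.hom ≫ D.split.hom.hom.hom = 𝟙 (Red.DS S D.M) :=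
  congrArg (fun f => f.hom.hom) D.split.inv_hom_id

lemma kap_iff (a : D.idx) (X : Over S) (t : X ⟶ D.T) :
    t ≫ al D a = 1 ↔ ∃ k : X ⟶ Red.DS S (D.M ⧸ AddSubgroup.zmultiples (D.P.root a)), k ≫ kap D a = t := by
  constructor
  · intro h
    obtain ⟨k, hk⟩ := exists_factor (D.P.root a) (t ≫ D.split.hom.hom.hom) (by
      rw [Category.assoc]
      exact h)
    refine ⟨k, ?_⟩
    rw [kap, ← Category.assoc, hk, Category.assoc, split_hom_inv, Category.comp_id]
  · rintro ⟨k, rfl⟩
    have h1 := comp_chi_of_factor (D.P.root a) k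
    rw [kap, al, Category.assoc, Category.assoc, reassoc_of% split_inv_hom D, ← Category.assoc]
    exact h1

instance isIso_split : IsIso (D.split.hom.hom.hom).left := by
  have : IsIso D.split.hom.hom.hom := ⟨D.split.inv.hom.hom, split_hom_inv D, split_inv_hom D⟩
  exact inferInstanceAs (IsIso ((Over.forget S).map D.split.hom.hom.hom))

lemma zmultiplesHom_injective (a : D.idx) : Function.Injective (zmultiplesHom D.M (D.P.root a)) := by
  rw [injective_iff_map_eq_zero]
  intro n hn
  have h1 : n • D.P.root a = 0 := hn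
  rcases smul_eq_zero.mp h1 with h | h
  · exact h
  · exact (D.P.ne_zero a h).elim

lemma surjective_al (a : D.idx) : Surjective (al D a).left := by
  have h1 : Surjective (Red.chi S (D.P.root a)).left :=
    Groth.Agent.Sga3.H827.DSFlat.surjective_DSmap _ S (zmultiplesHom_injective D a)
  rw [al, Over.comp_left]
  infer_instance

lemma flat_al (a : D.idx) : Flat (al D a).left := by
  have h1 : Flat (Red.chi S (D.P.root a)).left :=
    Groth.Agent.Sga3.H827.DSFlat.flat_DSmap _ S (zmultiplesHom_injective D a)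
  rw [al, Over.comp_left]
  infer_instance

lemma lfp_al (a : D.idx) : LocallyOfFinitePresentation (al D a).left := by
  have h1 : LocallyOfFinitePresentation (Red.DS S D.M).hom := lfp_DS D.M
  have h2 : LocallyOfFinitePresentation (Red.Gm S).hom := lfp_DS ℤ
  have h3 : LocallyOfFinitePresentation ((Red.chi S (D.P.root a)).left ≫ (Red.Gm S).hom) := by
    rw [Over.w]
    exact h1
  have h4 : LocallyOfFinitePresentation (Red.chi S (D.P.root a)).left :=
    Groth.Agent.Ega43.FPOfComp.locallyOfFinitePresentation_of_comp _ (Red.Gm S).hom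
  rw [al, Over.comp_left]
  infer_instance

/-- Root homomorphisms composed with a family of homomorphisms are equivariant. -/
lemma equi_of_hom {Y : Over S} {φ : G ⊗ Y ⟶ H} (hφ : AutFam.IsHomFamily G H φ) (a : D.idx) :
    Equi (al D a) ((D.i ▷ Y) ≫ φ) ((D.u a ▷ Y) ≫ φ) := by
  intro X t x y
  obtain ⟨x', hx1, hx2⟩ := (D.rootHom a).2.2 X t x
  have h1 : x' = sc (t ≫ al D a) x := eq_sc _ _ _ hx2
  have e : ∀ {P : Over S} (c : P ⟶ G) (p : X ⟶ P), lift p y ≫ (c ▷ Y) ≫ φ = lift (p ≫ c) y ≫ φ := by
    intro P c p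
    rw [← Category.assoc, lift_whiskerRight]
  rw [e, e, e, ← h1, hx1, ← hom_inv hφ, ← hφ, ← hφ]

lemma homFamily_whisker {P Y : Over S} [GrpObj P] (c : P ⟶ G) [IsMonHom c] {φ : G ⊗ Y ⟶ H}
    (hφ : AutFam.IsHomFamily G H φ) : AutFam.IsHomFamily P H ((c ▷ Y) ≫ φ) := by
  intro X p₁ p₂ y
  have e : ∀ (p : X ⟶ P), lift p y ≫ (c ▷ Y) ≫ φ = lift (p ≫ c) y ≫ φ := by
    intro p
    rw [← Category.assoc, lift_whiskerRight]
  rw [e, e, e, MonObj.mul_comp, hφ]

lemma homFamily_pull {P Y Y' : Over S} [GrpObj P] {φ : P ⊗ Y ⟶ H} (hφ : AutFam.IsHomFamily P H φ) (c : Y' ⟶ Y) :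
    AutFam.IsHomFamily P H ((P ◁ c) ≫ φ) := by
  intro X p₁ p₂ y
  rw [← Category.assoc, ← Category.assoc, ← Category.assoc, lift_whiskerLeft, lift_whiskerLeft, lift_whiskerLeft, hφ]

omit [GrpObj G] in
lemma equi_pull {T Y Y' : Over S} [GrpObj T] {α : T ⟶ Red.Gm S} {f : T ⊗ Y ⟶ H} {w : Red.Ga S ⊗ Y ⟶ H}
    (h : Equi α f w) (c : Y' ⟶ Y) : Equi α ((T ◁ c) ≫ f) ((Red.Ga S ◁ c) ≫ w) := by
  intro X t x y
  rw [← Category.assoc, ← Category.assoc, ← Category.assoc, lift_whiskerLeft, lift_whiskerLeft, lift_whiskerLeft]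
  exact h X t x (y ≫ c)

/-- **Families of root homomorphisms** over the scheme of homomorphisms of the torus. -/
theorem exists_roots [IsSeparated H.hom] [LocallyOfFinitePresentation H.hom]
    [GeometricallyIrreducible (Red.Ga S).hom] {A : Over S} (υ : D.T ⊗ A ⟶ H)
    (hυ : AutFam.IsHomFamily D.T H υ) (L : List D.idx) :
    ∃ (B : Over S) (p : B ⟶ A) (v : D.idx → (Red.Ga S ⊗ B ⟶ H)),
      LocallyOfFinitePresentation p.left ∧ IsSeparated p.left ∧
      (∀ a ∈ L, AutFam.IsHomFamily (Red.Ga S) H (v a) ∧ Equi (al D a) ((D.T ◁ p) ≫ υ) (v a)) ∧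
      ∀ (Y : Over S) (b : Y ⟶ A) (w : D.idx → (Red.Ga S ⊗ Y ⟶ H)),
        (∀ a ∈ L, AutFam.IsHomFamily (Red.Ga S) H (w a) ∧ Equi (al D a) ((D.T ◁ b) ≫ υ) (w a)) →
        ∃! c : Y ⟶ B, c ≫ p = b ∧ ∀ a ∈ L, (Red.Ga S ◁ c) ≫ v a = w a := by
  classical
  induction L with
  | nil =>
    refine ⟨A, 𝟙 A, fun _ => 1, ?_, ?_, by simp, fun Y b w _ => ⟨b, ⟨Category.comp_id b, by simp⟩, ?_⟩⟩
    · change LocallyOfFinitePresentation (𝟙 A.left)
      infer_instance
    · change IsSeparated (𝟙 A.left)
      infer_instance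
    · rintro c ⟨hc, -⟩
      rw [← hc, Category.comp_id]
  | cons a L ih =>
    obtain ⟨B, p, v, hp1, hp2, hv, huniv⟩ := ih
    by_cases ha : a ∈ L
    · have hmem : ∀ a', a' ∈ a :: L ↔ a' ∈ L := by
        intro a'
        rw [List.mem_cons]
        exact ⟨fun h => h.elim (fun h => h ▸ ha) id, Or.inr⟩
      simp only [hmem]
      exact ⟨B, p, v, hp1, hp2, hv, huniv⟩
    · have hqc : QuasiCompact (Red.DS S (D.M ⧸ AddSubgroup.zmultiples (D.P.root a))).hom := quasiCompact_DS _
      obtain ⟨C, q, x, hq1, hq2, hx1, hx2, hx3⟩ := exists_rep (al D a) (surjective_al D a) (flat_al D a)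
        (lfp_al D a) (kap D a) (K544.DSProj.locProj_DS S _) (hκ := kap_iff D a) (H := H) ((D.T ◁ p) ≫ υ)
        (homFamily_pull hυ p)
      have e1 : ∀ {Y : Over S} (c : Y ⟶ C), (D.T ◁ (c ≫ q)) ≫ (D.T ◁ p) ≫ υ = (D.T ◁ (c ≫ q ≫ p)) ≫ υ := by
        intro Y c
        simp only [MonoidalCategory.whiskerLeft_comp, Category.assoc]
      refine ⟨C, q ≫ p, fun a' => if a' = a then x else (Red.Ga S ◁ q) ≫ v a', ?_, ?_, ?_, ?_⟩
      · rw [Over.comp_left]
        infer_instance
      · rw [Over.comp_left]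
        infer_instance
      · intro a' ha'
        by_cases h : a' = a
        · subst h
          simp only [if_true]
          refine ⟨hx1, ?_⟩
          rw [MonoidalCategory.whiskerLeft_comp, Category.assoc]
          exact hx2
        · simp only [if_neg h]
          have h5 := hv a' ((List.mem_cons.mp ha').resolve_left h)
          refine ⟨homFamily_pull h5.1 q, ?_⟩
          rw [MonoidalCategory.whiskerLeft_comp, Category.assoc]
          exact equi_pull h5.2 q
      · intro Y b w hw
        obtain ⟨c₁, ⟨hc₁, hc₁'⟩, hc₁u⟩ := huniv Y b w (fun a' ha' => hw a' (List.mem_cons_of_mem _ ha'))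
        obtain ⟨c, ⟨hc, hc'⟩, hcu⟩ := hx3 Y c₁ (w a) (hw a List.mem_cons_self).1 (by
          have h5 := (hw a List.mem_cons_self).2
          rw [← hc₁, MonoidalCategory.whiskerLeft_comp, Category.assoc] at h5
          exact h5)
        have hLa : ∀ a' ∈ L, a' ≠ a := fun a' h h' => ha (h' ▸ h)
        refine ⟨c, ⟨?_, ?_⟩, ?_⟩
        · rw [← Category.assoc, hc, hc₁]
        · intro a' ha'
          by_cases h : a' = a
          · subst h
            simpa only [if_true] using hc'
          · simp only [if_neg h]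
            rw [← MonoidalCategory.whiskerLeft_comp_assoc, hc]
            exact hc₁' a' ((List.mem_cons.mp ha').resolve_left h)
        · rintro c' ⟨hc'1, hc'2⟩
          apply hcu
          refine ⟨?_, ?_⟩
          · apply hc₁u
            refine ⟨by rw [Category.assoc]; exact hc'1, fun a' ha' => ?_⟩
            have h5 := hc'2 a' (List.mem_cons_of_mem _ ha')
            simp only [if_neg (hLa a' ha')] at h5
            rw [MonoidalCategory.whiskerLeft_comp, Category.assoc]
            exact h5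
          · have h5 := hc'2 a List.mem_cons_self
            simpa only [if_true] using h5

end K544.RootFold
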