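import Groth.Agent.AutFam.K544.ModelBc
import Groth.Agent.AutFam.K544.RepQ
import Groth.Agent.Sga3.H816.UnitLoc

/-!
# Smoothness of the scheme of homomorphisms, local version
-/

set_option autoImplicit false
universe u
open CategoryTheory MonoidalCategory CartesianMonoidalCategory MonObj GrpObj AlgebraicGeometry Limits
open scoped TensorProduct

namespace K544.SmoothLoc

open Groth.Agent.Sga3B Groth.Agent.Sga3B.InfConj Groth.Agent.Sga3B.InfConjFam K544.ModelBc
open Groth.Agent.Sga3.H802.HomFam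
open Groth.Agent.Sga3B.HaarDef (Haar)

lemma isModel_comp {R : Type u} [CommRing R] {E E' : Over (Spec (CommRingCat.of R))} [GrpObj E] [GrpObj E']
    {D : Type u} [CommRing D] [Bialgebra R D] (ψ : E' ≅ E) [IsMonHom ψ.hom] {e : E ≅ pt R D} (he : IsModel e) :
    IsModel (ψ ≪≫ e) := by
  intro W x y
  have h1 := he W (x ≫ ψ.hom) (y ≫ ψ.hom)
  rw [← MonObj.mul_comp] at h1
  simpa only [Iso.trans_hom, Category.assoc] using h1

theorem HasInt.bc {S S' : Scheme.{u}} {G : Over S} [GrpObj G] (h : HasInt G) (v : S' ⟶ S) : HasInt (Red.bc v G) := by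
  intro C _ x
  obtain ⟨D, _, _, e, he, hν⟩ := h C (x ≫ v)
  let ψ : Grp.mk (Red.bc x (Red.bc v G)) ≅ Grp.mk (Red.bc (x ≫ v) G) := (BcIso.bcCompIso x v G).symm
  let ψ' : Red.bc x (Red.bc v G) ≅ Red.bc (x ≫ v) G := (Grp.forget _).mapIso ψ
  have i1 : IsMonHom ψ'.hom := inferInstanceAs (IsMonHom ψ.hom.hom.hom)
  exact ⟨D, _, _, ψ' ≪≫ e, isModel_comp ψ' he, hν⟩

/-- **Smoothness of `Hom_{S-gr}(G, H)`** if `G` has invariant integrals étale-locally. -/
theorem smooth_of_local {S : Scheme.{u}} {G H : Over S} [GrpObj G] [GrpObj H] [Smooth H.hom] [IsSeparated H.hom]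
    {A : Over S} {υ : G ⊗ A ⟶ H} (hA : AutFam.RepresentsHom G H A υ) [LocallyOfFinitePresentation A.hom]
    (h : ∀ s : S, ∃ (R : Type u) (_ : CommRing R) (v : Spec (CommRingCat.of R) ⟶ S), Etale v ∧ s ∈ Set.range v ∧
      HasInt (Red.bc v G)) : Smooth A.hom := by
  refine RepDescent.prop_of_representsHom @Smooth hA fun s => ?_
  obtain ⟨R, _, v, hv, ⟨t, ht⟩, hint⟩ := h s
  obtain ⟨f, hf, hU⟩ := Groth.Agent.Sga3.H816.UnitLoc.exists_away (Red.bc v H) t
  let C' := Localization.Away f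
  let w : Spec (CommRingCat.of C') ⟶ Spec (CommRingCat.of R) := Spec.map (CommRingCat.ofHom (algebraMap R C'))
  have hw : IsOpenImmersion w := IsOpenImmersion.of_isLocalization f
  obtain ⟨z, hz⟩ : t ∈ Set.range w := by
    change t ∈ Set.range (PrimeSpectrum.comap (algebraMap R C'))
    rw [PrimeSpectrum.localization_away_comap_range C' f]
    exact hf
  obtain ⟨υ', hυ'⟩ := RepDescent.representsHom_bc hA v
  obtain ⟨υ'', hυ''⟩ := RepDescent.representsHom_bc hυ' w
  have i1 : Smooth (Red.bc v H).hom := inferInstanceAs (Smooth (pullback.snd H.hom v))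
  have i2 : IsSeparated (Red.bc v H).hom := inferInstanceAs (IsSeparated (pullback.snd H.hom v))
  have i3 : LocallyOfFinitePresentation (Red.bc v A).hom :=
    inferInstanceAs (LocallyOfFinitePresentation (pullback.snd A.hom v))
  have j1 : Smooth (Red.bc w (Red.bc v H)).hom := inferInstanceAs (Smooth (pullback.snd (Red.bc v H).hom w))
  have j2 : IsSeparated (Red.bc w (Red.bc v H)).hom :=
    inferInstanceAs (IsSeparated (pullback.snd (Red.bc v H).hom w))
  have j3 : LocallyOfFinitePresentation (Red.bc w (Red.bc v A)).hom :=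
    inferInstanceAs (LocallyOfFinitePresentation (pullback.snd (Red.bc v A).hom w))
  have h1 : Smooth (Red.bc w (Red.bc v A)).hom :=
    smooth_of_hasInt (HasInt.bc hint w) (fun C _ x => Groth.Agent.Sga3.H816.UnitLoc.HasAffineUnitNhd.bc x _ hU) hυ''
  let eG : Red.bc (w ≫ v) G ≅ Red.bc w (Red.bc v G) := (Grp.forget _).mapIso (BcIso.bcCompIso w v G)
  let eH : Red.bc w (Red.bc v H) ≅ Red.bc (w ≫ v) H := (Grp.forget _).mapIso (BcIso.bcCompIso w v H).symm
  have k1 : IsMonHom eG.hom := inferInstanceAs (IsMonHom (BcIso.bcCompIso w v G).hom.hom.hom)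
  have k2 : IsMonHom eH.hom := inferInstanceAs (IsMonHom (BcIso.bcCompIso w v H).symm.hom.hom.hom)
  refine ⟨_, w ≫ v, inferInstance, ⟨z, ?_⟩, Red.bc w (Red.bc v A), _,
    K544.RepQ.representsHom_right eH (K544.RepQ.representsHom_left eG hυ''), h1⟩
  rw [Scheme.Hom.comp_apply, hz]
  exact ht

end K544.SmoothLoc
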