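import Groth.Agent.AutFam.K544.SmoothLoc
import Groth.Agent.AutFam.K544.HaarRed
import Groth.Agent.AutFam.K544.PinPair

/-!
# Smoothness of `Hom_{S-gr}(G, H)` in characteristic zero, `G` reductive
-/

set_option autoImplicit false
universe u
open CategoryTheory MonoidalCategory CartesianMonoidalCategory MonObj GrpObj AlgebraicGeometry Limits

namespace K544.SmoothRed

/-- **Smoothness of `Hom_{S-gr}(G, H)`** for `G` reductive over a scheme of characteristic zero and `H` smooth and
separated. -/
theorem smooth_of_charZero {S : Scheme.{u}} (hS : ∀ s : S, CharZero (S.residueField s)) {G H : Over S} [GrpObj G]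
    [GrpObj H] (hG : Red.IsReductive G) [Smooth H.hom] [IsSeparated H.hom] {A : Over S} {υ : G ⊗ A ⟶ H}
    (hA : AutFam.RepresentsHom G H A υ) [LocallyOfFinitePresentation A.hom] : Smooth A.hom := by
  refine K544.SmoothLoc.smooth_of_local hA fun s => ?_
  obtain ⟨R, v, hv, hs, ⟨D⟩⟩ := K544.PinPair.exists_pinning hG s
  refine ⟨R, inferInstance, v, hv, hs, ?_⟩
  have hne : Nonempty (Spec R) := by
    obtain ⟨t, -⟩ := hs
    exact ⟨t⟩
  refine K544.HaarRed.hasInt_of_pinning (R := R) (fun t => ?_) D
  have := hS (v t)
  exact charZero_of_injective_ringHom (v.residueFieldMap t).hom.injective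

end K544.SmoothRed
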