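import Groth.Agent.AutFam.K544.TorusGen
import Groth.Agent.AutFam.K544.RepQ
import Groth.Agent.Sga3B.Trans894
import Groth.Agent.Sga3.H816.RepDef

/-!
# Homomorphisms from a split reductive group over an affine base
-/

set_option autoImplicit false
open CategoryTheory MonoidalCategory CartesianMonoidalCategory MonObj GrpObj AlgebraicGeometry Limits
universe u

namespace K544.SplitLoc

open K544.RepQ K544.QAff K544.SplitHom K544.TorusGen Groth.Agent.Sga3.H816.RepDef Groth.Agent.Sga3B

/-- If `Hom(D(ℤ^r), H)` is representable by a good scheme then so is `Hom(G, H)`, `G` split of rank `r`. -/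
theorem repQ_of_rep {S : Scheme.{u}} [IsAffine S] {G H : Over S} [GrpObj G] [GrpObj H] (D : Red.SplitRed G)
    (b : D.P.Base) [IsSeparated H.hom] [LocallyOfFinitePresentation H.hom] {r : ℕ}
    (e : D.M ≃+ (Fin r → ℤ)) (h : Rep (Red.DS S (Fin r → ℤ)) H) : RepQ G H := by
  obtain ⟨A, υ, h1, h2, h3, h4⟩ := h
  let e₁ : Grp.mk D.T ≅ Grp.mk (Red.DS S (Fin r → ℤ)) := D.split ≪≫ (Trans894.DSiso S e).symm
  let e' : D.T ≅ Red.DS S (Fin r → ℤ) := (Grp.forget _).mapIso e₁
  have i1 : IsMonHom e'.hom := inferInstanceAs (IsMonHom e₁.hom.hom.hom)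
  have h1' := representsHom_left e' h1
  obtain ⟨B, p, ψ, hp1, hp2, hψ, -⟩ := K544.SplitHom.exists_rep D b _ h1'
  have h5 : LocallyOfFinitePresentation B.hom := by
    rw [← Over.w p]
    infer_instance
  have h6 : IsSeparated B.hom := by
    rw [← Over.w p]
    infer_instance
  exact ⟨B, ψ, hψ, h5, h6, lqa_of_tori b h1' h4 hψ⟩

end K544.SplitLoc
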