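import Groth.Agent.AutFam.K544.SplitHom
import Groth.Agent.AutFam.K544.QAff

/-!
# A homomorphism from a split reductive group is determined by its restrictions to finitely many tori

`D` is a splitting of `G`; `cj D a : T ⟶ G` is `t ↦ u_a(1) t u_a(1)⁻¹`.

* `ext_of_tori`: a family of homomorphisms `G ⊗ Y ⟶ H` is determined by its restrictions along `D.i` and the `cj D a`.
* `lqa_of_tori`: if `Hom(T, H)` is represented by a scheme with quasi-affine quasi-compact opens, the same is true for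
  `Hom(G, H)`.
-/

set_option autoImplicit false
open CategoryTheory MonoidalCategory CartesianMonoidalCategory MonObj GrpObj AlgebraicGeometry Limits
universe u

namespace K544.TorusGen

open K544.GmGa K544.WeilExt K544.WeilClosed K544.RootClosed K544.RootFold K544.CellFam K544.SplitHom K544.QAff
  Groth.Agent.Sga3B.GaPts Groth.Agent.Sga3.H811.Pts

variable {S : Scheme.{u}}

section sub

variable (S)

/-- `x ↦ 1 - x` on `𝔾_a` -/
noncomputable def sg : Red.Ga S ⟶ Red.Ga S := gaPt (Red.Ga S) (1 - Red.gaFn (𝟙 (Red.Ga S)))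

variable {S}

lemma gaFn_sg {X : Over S} (x : X ⟶ Red.Ga S) : Red.gaFn (x ≫ sg S) = 1 - Red.gaFn x := by
  rw [gaFn_comp, sg, gaFn_gaPt, map_sub, map_one, ← gaFn_comp, Category.comp_id]

lemma sg_sg : sg S ≫ sg S = 𝟙 (Red.Ga S) := by
  apply gaFn_injective
  rw [gaFn_sg]
  have h := gaFn_sg (𝟙 (Red.Ga S))
  rw [Category.id_comp] at h
  rw [h]
  ring

instance isIso_sg : IsIso (sg S).left := by
  have : IsIso (sg S) := ⟨sg S, sg_sg, sg_sg⟩
  exact inferInstanceAs (IsIso ((Over.forget S).map (sg S)))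

variable (S) in
/-- `z ↦ 1 - z` from `𝔾_m` to `𝔾_a` -/
noncomputable def js : Red.Gm S ⟶ Red.Ga S := jm S ≫ sg S

lemma gaFn_js {X : Over S} (t : X ⟶ Red.Gm S) : Red.gaFn (t ≫ js S) = 1 - Red.gmFn t := by
  rw [js, ← Category.assoc, gaFn_sg, gaFn_jm]

instance isOpenImmersion_js : IsOpenImmersion (js S).left := by
  rw [js, Over.comp_left]
  infer_instance

end sub

variable {G H : Over S} [GrpObj G] [GrpObj H] (D : Red.SplitRed G)

/-- the torus conjugated by `u_a(1)` -/
noncomputable def cj (a : D.idx) : D.T ⟶ G := (one' D.T ≫ D.u a) * D.i * (one' D.T ≫ D.u a)⁻¹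

lemma comp_cj (a : D.idx) {X : Over S} (t : X ⟶ D.T) :
    t ≫ cj D a = (one' X ≫ D.u a) * (t ≫ D.i) * (one' X ≫ D.u a)⁻¹ := by
  rw [cj, MonObj.comp_mul, MonObj.comp_mul, GrpObj.comp_inv, ← Category.assoc, comp_one']

lemma homFamily_cj (a : D.idx) {Y : Over S} {φ : G ⊗ Y ⟶ H} (hφ : AutFam.IsHomFamily G H φ) :
    AutFam.IsHomFamily D.T H ((cj D a ▷ Y) ≫ φ) := by
  have hi : IsMonHom D.i := D.maximalTorus.1
  intro X p₁ p₂ y
  have e : ∀ (p : X ⟶ D.T), lift p y ≫ (cj D a ▷ Y) ≫ φ = lift (p ≫ cj D a) y ≫ φ := by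
    intro p
    rw [← Category.assoc, lift_whiskerRight]
  rw [e, e, e, ← hφ]
  congr 2
  rw [comp_cj, comp_cj, comp_cj, MonObj.mul_comp]
  group

/-- the commutator of `u_a(1)` and a point of the torus -/
lemma comm_eq (a : D.idx) {X : Over S} (t : X ⟶ D.T) :
    ((t ≫ al D a) ≫ js S) ≫ D.u a = (t ≫ cj D a) * (t ≫ D.i)⁻¹ := by
  have hu : IsMonHom (D.u a) := (D.rootHom a).1
  obtain ⟨x', hx1, hx2⟩ := (D.rootHom a).2.2 X t (one' X)
  have h1 : Red.gaFn x' = Red.gmFn (t ≫ al D a) := by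
    have h2 : Red.gaFn (one' X) = 1 := gaFn_one'
    rw [hx2, h2, _root_.mul_one]
    rfl
  have h3 : ((t ≫ al D a) ≫ js S) = one' X * x'⁻¹ := by
    apply gaFn_injective
    have h2 : Red.gaFn (one' X) = 1 := gaFn_one'
    rw [gaFn_js, gaFn_mul, gaFn_inv, h1, h2, sub_eq_add_neg]
  rw [h3, MonObj.mul_comp, GrpObj.inv_comp, hx1, comp_cj]
  group

variable {D} in
/-- **A family of homomorphisms is determined by its restrictions to finitely many tori.** -/
theorem ext_of_tori {b : D.P.Base} {Y : Over S} {φ φ' : G ⊗ Y ⟶ H} (hφ : AutFam.IsHomFamily G H φ)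
    (hφ' : AutFam.IsHomFamily G H φ') (h0 : (D.i ▷ Y) ≫ φ = (D.i ▷ Y) ≫ φ')
    (ha : ∀ a, (cj D a ▷ Y) ≫ φ = (cj D a ▷ Y) ≫ φ') : φ = φ' := by
  have hga := irr_ga (S := S)
  have hgs : Smooth (Red.Ga S).hom := Groth.Agent.RedSub.H635.GaSm.smooth_ga
  have hGs : Smooth G.hom := D.reductive.2.1
  have hGi := irr_of_isReductive D.reductive
  have hui : ∀ a, IsMonHom (D.u a) := fun a => (D.rootHom a).1
  obtain ⟨n, eneg, hneg⟩ := exists_enum (RedSub.negRoots D.P b)
  obtain ⟨m, epos, hpos⟩ := exists_enum (RedSub.posRoots D.P b)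
  have hop : IsOpenImmersion (RedSub.cellMap D eneg epos).left :=
    Groth.Agent.RedSub.H633.CellOpenImm.isOpenImmersion_cellMap_base b hneg hpos
  have hsu := surjective_Om D n m
  have hroot : ∀ a, (D.u a ▷ Y) ≫ φ = (D.u a ▷ Y) ≫ φ' := by
    intro a
    have := hui a
    refine hom_ext (j := js S) (homFamily_whisker (D.u a) hφ) (homFamily_whisker (D.u a) hφ') ?_
    have h6 := epi_whiskerRight (al D a) (surjective_al D a) (flat_al D a) Y
    rw [← cancel_epi (al D a ▷ Y)]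
    have key : ∀ {ψ : G ⊗ Y ⟶ H} (_ : AutFam.IsHomFamily G H ψ) {X : Over S} (t : X ⟶ D.T) (y : X ⟶ Y),
        lift t y ≫ (al D a ▷ Y) ≫ (js S ▷ Y) ≫ (D.u a ▷ Y) ≫ ψ =
          (lift t y ≫ (cj D a ▷ Y) ≫ ψ) * (lift t y ≫ (D.i ▷ Y) ≫ ψ)⁻¹ := by
      intro ψ hψ X t y
      rw [← Category.assoc, lift_whiskerRight, ← Category.assoc, lift_whiskerRight, ← Category.assoc,
        lift_whiskerRight, comm_eq, hψ, hom_inv hψ, ← Category.assoc (lift t y), lift_whiskerRight,
        ← Category.assoc (lift t y), lift_whiskerRight]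
    refine fam_ext fun X t y => ?_
    rw [key hφ, key hφ', h0, ha]
  refine hom_ext (j := RedSub.cellMap D eneg epos) hφ hφ' ?_
  rw [cellMap_whisker D eneg epos hφ, cellMap_whisker D eneg epos hφ', h0]
  simp only [hroot]

/-- powers of a scheme with quasi-affine quasi-compact opens -/
lemma lqa_pow [IsAffine S] {A : Over S} (h : LQA A.left) : ∀ n, LQA (RedSub.pow A n).left
  | 0 => LQA.of_isAffine S
  | n + 1 => LQA.pullback A.hom (RedSub.pow A n).hom h (lqa_pow h n)

lemma lft_pow {A : Over S} [LocallyOfFiniteType A.hom] : ∀ n, LocallyOfFiniteType (RedSub.pow A n).hom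
  | 0 => inferInstanceAs (LocallyOfFiniteType (𝟙 S))
  | n + 1 => by
    have h1 := lft_pow (A := A) n
    have h2 : LocallyOfFiniteType (fst A (RedSub.pow A n)).left :=
      inferInstanceAs (LocallyOfFiniteType (pullback.fst A.hom (RedSub.pow A n).hom))
    change LocallyOfFiniteType (A ⊗ RedSub.pow A n).hom
    rw [← Over.w (fst A (RedSub.pow A n))]
    infer_instance

variable {D} in
/-- **Quasi-affineness of the quasi-compact opens of `Hom(G, H)`.** -/
theorem lqa_of_tori [IsAffine S] (b : D.P.Base) {A : Over S} {υ : D.T ⊗ A ⟶ H}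
    (hυ : AutFam.RepresentsHom D.T H A υ) [LocallyOfFiniteType A.hom] (hA : LQA A.left)
    {B : Over S} {ψ : G ⊗ B ⟶ H} (hψ : AutFam.RepresentsHom G H B ψ) [LocallyOfFiniteType B.hom] : LQA B.left := by
  classical
  have hi : IsMonHom D.i := D.maximalTorus.1
  let n := Fintype.card D.idx
  let e : D.idx ≃ Fin n := Fintype.equivFin D.idx
  obtain ⟨c₀, hc₀, -⟩ := hυ.2 B ((D.i ▷ B) ≫ ψ) (homFamily_whisker D.i hψ.1)
  choose c hc _ using fun a => hυ.2 B ((cj D a ▷ B) ≫ ψ) (homFamily_cj D a hψ.1)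
  let m : B ⟶ A ⊗ RedSub.pow A n := lift c₀ (Groth.Agent.RedSub.H636.CellPts.powPt n (fun k => c (e.symm k)))
  have hm : Mono m := by
    constructor
    intro Y y y' hyy
    have h1 : y ≫ c₀ = y' ≫ c₀ := by
      have := congrArg (· ≫ fst A (RedSub.pow A n)) hyy
      simpa only [m, Category.assoc, lift_fst] using this
    have h2 : ∀ a, y ≫ c a = y' ≫ c a := by
      intro a
      have h3 := congrArg (· ≫ snd A (RedSub.pow A n)) hyy
      simp only [m, Category.assoc, lift_snd, Groth.Agent.RedSub.H636.CellPts.comp_powPt] at h3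
      have h4 := congrFun (Groth.Agent.RedSub.H636.CellPts.powPt_injective n _ _ h3) (e a)
      simpa using h4
    have hw : ∀ {P : Over S} (k : P ⟶ G) (z : Y ⟶ B), (k ▷ Y) ≫ (G ◁ z) ≫ ψ = (P ◁ z) ≫ (k ▷ B) ≫ ψ := by
      intro P k z
      rw [← whisker_exchange_assoc]
    refine (hψ.2 Y ((G ◁ y) ≫ ψ) (homFamily_pull hψ.1 y)).unique rfl ?_
    refine ext_of_tori (D := D) (b := b) (homFamily_pull hψ.1 y') (homFamily_pull hψ.1 y) ?_ (fun a => ?_)
    · rw [hw, hw, ← hc₀, ← MonoidalCategory.whiskerLeft_comp_assoc, ← MonoidalCategory.whiskerLeft_comp_assoc, h1]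
    · rw [hw, hw, ← hc a, ← MonoidalCategory.whiskerLeft_comp_assoc, ← MonoidalCategory.whiskerLeft_comp_assoc,
        h2 a]
  have hm' : Mono m.left := inferInstance
  have h1 := lft_pow (A := A) n
  have h3 : LocallyOfFiniteType (A ⊗ RedSub.pow A n).hom := lft_pow (A := A) (n + 1)
  have h4 : LocallyOfFiniteType (m.left ≫ (A ⊗ RedSub.pow A n).hom) := by rw [Over.w]; infer_instance
  have h5 : LocallyOfFiniteType m.left := locallyOfFiniteType_of_comp m.left (A ⊗ RedSub.pow A n).hom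
  exact LQA.of_mono m.left (lqa_pow hA (n + 1))

end K544.TorusGen
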