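import Groth.Agent.AutFam.K544.WeilExt
import Groth.Agent.Sga3B.CentRep

/-!
# The locus where a family extends to a family of homomorphisms is closed

* `exists_closed_multOn`: for a family `φ : O ⊗ X ⟶ H` of morphisms from an open subscheme `O` of the smooth group `G`
  with geometrically irreducible fibres to a separated group `H`, the functor of points `a` of `X` such that
  `φ` pulled back along `a` is generically multiplicative is represented by a closed subscheme of `X`.
* `exists_closed_hom`: the same with an extension to a family of homomorphisms.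
-/

set_option autoImplicit false
open CategoryTheory MonoidalCategory CartesianMonoidalCategory MonObj GrpObj AlgebraicGeometry Limits
universe u

namespace K544.WeilClosed

open K544.GenPt K544.WeilExt Groth.Agent.Sga3B

variable {S : Scheme.{u}} {G O H : Over S} [GrpObj G] [GrpObj H]

lemma isClosedImmersion_eta (H : Over S) [GrpObj H] [IsSeparated H.hom] : IsClosedImmersion (η[H] : 𝟙_ (Over S) ⟶ H).left := by
  have h1 : IsClosedImmersion ((η[H] : 𝟙_ (Over S) ⟶ H).left ≫ H.hom) := by
    rw [Over.w]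
    exact inferInstanceAs (IsClosedImmersion (𝟙 S))
  exact IsClosedImmersion.of_comp _ H.hom

lemma lfp_eta (H : Over S) [GrpObj H] [LocallyOfFiniteType H.hom] :
    LocallyOfFinitePresentation (η[H] : 𝟙_ (Over S) ⟶ H).left := by
  have h1 : LocallyOfFinitePresentation ((η[H] : 𝟙_ (Over S) ⟶ H).left ≫ H.hom) := by
    rw [Over.w]
    exact inferInstanceAs (LocallyOfFinitePresentation (𝟙 S))
  exact Groth.Agent.Ega43.FPOfComp.locallyOfFinitePresentation_of_comp _ H.hom

lemma factors_eta_iff {X : Over S} (c : X ⟶ H) : (∃ b : X ⟶ 𝟙_ (Over S), b ≫ η[H] = c) ↔ c = 1 := by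
  constructor
  · rintro ⟨b, rfl⟩
    rw [Hom.one_def, toUnit_unique b (toUnit X)]
  · rintro rfl
    exact ⟨toUnit X, rfl⟩

section

variable [Smooth G.hom] [GeometricallyIrreducible G.hom] (j : O ⟶ G)
  [IsOpenImmersion j.left] [Surjective O.hom]

/-- the scheme of pairs of points of `O` with product in `O` -/
noncomputable abbrev Q : Over S := pullback ((fst O O ≫ j) * (snd O O ≫ j)) j

omit [GrpObj G] [GeometricallyIrreducible G.hom] [Surjective O.hom] in
include j in
lemma smooth_O : Smooth O.hom := by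
  rw [← Over.w j]
  infer_instance

omit [GrpObj G] [Smooth G.hom] in
include j in
lemma irr_O : GeometricallyIrreducible O.hom := by
  have h1 : Surjective (j.left ≫ G.hom) := by rw [Over.w]; infer_instance
  rw [← Over.w j]
  infer_instance

omit [GrpObj H] [Smooth G.hom] [GeometricallyIrreducible G.hom] [Surjective O.hom] in
lemma isOpenImmersion_Q : IsOpenImmersion (pullback.fst ((fst O O ≫ j) * (snd O O ≫ j)) j).left :=
  MorphismProperty.of_isPullback (P := @IsOpenImmersion)
    (CentRep.isPullback_left (IsPullback.of_hasPullback ((fst O O ≫ j) * (snd O O ≫ j)) j)).flip inferInstance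

omit [GeometricallyIrreducible G.hom] [Surjective O.hom] in
lemma smooth_Q : Smooth (Q j).hom := by
  have h1 := isOpenImmersion_Q j
  have h2 := smooth_O j
  have h3 : Smooth (O ⊗ O).hom := by
    rw [← Over.w (fst O O)]
    have : Smooth (fst O O).left := inferInstanceAs (Smooth (pullback.fst O.hom O.hom))
    infer_instance
  rw [← Over.w (pullback.fst ((fst O O ≫ j) * (snd O O ≫ j)) j)]
  infer_instance

lemma surjective_Q : Surjective (Q j).hom := by
  obtain ⟨V, v, z, h1, h2, h3⟩ := exists_generic j (Y := O) (fun i : Bool => bif i then 1 else j)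
  obtain ⟨w, hw⟩ := h3 true
  obtain ⟨w', hw'⟩ := h3 false
  simp only [cond_true, cond_false] at hw hw'
  rw [MonObj.comp_one, _root_.mul_one] at hw
  let q : V ⟶ Q j := pullback.lift (lift w v) w' (by
    rw [MonObj.comp_mul, ← Category.assoc, ← Category.assoc, lift_fst, lift_snd, hw, hw'])
  have h4 : Surjective (q.left ≫ (Q j).hom) := by
    rw [Over.w q, ← Over.w v]
    infer_instance
  exact Surjective.of_comp q.left (Q j).hom

lemma irr_Q : GeometricallyIrreducible (Q j).hom := by
  have h1 := isOpenImmersion_Q j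
  have h2 := irr_O j
  have h2' := smooth_O j
  have h3 : GeometricallyIrreducible (O ⊗ O).hom := by
    rw [← Over.w (fst O O)]
    have : GeometricallyIrreducible (fst O O).left := inferInstanceAs (GeometricallyIrreducible (pullback.fst O.hom O.hom))
    have : Smooth (fst O O).left := inferInstanceAs (Smooth (pullback.fst O.hom O.hom))
    exact GeometricallyIrreducible.comp _ _
  have h4 := surjective_Q j
  rw [← Over.w (pullback.fst ((fst O O ≫ j) * (snd O O ≫ j)) j)] at h4 ⊢
  infer_instance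

/-- The locus where `φ` is generically multiplicative is closed. -/
theorem exists_closed_multOn [IsSeparated H.hom] [LocallyOfFiniteType H.hom] {X : Over S} (φ : O ⊗ X ⟶ H) :
    ∃ (Z : Over S) (z : Z ⟶ X), IsClosedImmersion z.left ∧ LocallyOfFinitePresentation z.left ∧
      ∀ (Y : Over S) (a : Y ⟶ X), (∃ b : Y ⟶ Z, b ≫ z = a) ↔ MultOn j ((O ◁ a) ≫ φ) := by
  have h1 := smooth_Q j
  have h2 := irr_Q j
  have h3 := isClosedImmersion_eta H
  let p := pullback.fst ((fst O O ≫ j) * (snd O O ≫ j)) j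
  let r := pullback.snd ((fst O O ≫ j) * (snd O O ≫ j)) j
  obtain ⟨Z, z, hz1, hz2, hz3⟩ := CentRep.exists_closed_map (X := X) (Q := Q j)
    ((lift (snd X (Q j) ≫ r) (fst X (Q j)) ≫ φ)⁻¹ *
      ((lift (snd X (Q j) ≫ p ≫ fst O O) (fst X (Q j)) ≫ φ) *
       (lift (snd X (Q j) ≫ p ≫ snd O O) (fst X (Q j)) ≫ φ))) η[H]
  refine ⟨Z, z, hz1, hz3 (lfp_eta H), fun Y a => ?_⟩
  rw [hz2]
  have key : ∀ (T' : Over S) (x : T' ⟶ Y) (h : T' ⟶ Q j),
      (∃ b : T' ⟶ 𝟙_ (Over S), b ≫ η[H] = lift (x ≫ a) h ≫ ((lift (snd X (Q j) ≫ r) (fst X (Q j)) ≫ φ)⁻¹ *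
      ((lift (snd X (Q j) ≫ p ≫ fst O O) (fst X (Q j)) ≫ φ) *
       (lift (snd X (Q j) ≫ p ≫ snd O O) (fst X (Q j)) ≫ φ)))) ↔
      lift (h ≫ r) x ≫ (O ◁ a) ≫ φ =
        (lift (h ≫ p ≫ fst O O) x ≫ (O ◁ a) ≫ φ) * (lift (h ≫ p ≫ snd O O) x ≫ (O ◁ a) ≫ φ) := by
    intro T' x h
    rw [factors_eta_iff, MonObj.comp_mul, MonObj.comp_mul, GrpObj.comp_inv, inv_mul_eq_one]
    have e : ∀ c : Q j ⟶ O, lift (x ≫ a) h ≫ lift (snd X (Q j) ≫ c) (fst X (Q j)) ≫ φ =
        lift (h ≫ c) x ≫ (O ◁ a) ≫ φ := by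
      intro c
      rw [← Category.assoc, comp_lift, ← Category.assoc, lift_snd, lift_fst, ← Category.assoc (lift (h ≫ c) x),
        lift_whiskerLeft]
    rw [e, e, e]
  constructor
  · intro H1 Y' x y w t hw
    let q : Y' ⟶ Q j := pullback.lift (lift x y) w (by
      rw [MonObj.comp_mul, ← Category.assoc, ← Category.assoc, lift_fst, lift_snd, hw])
    have h4 := (key Y' t q).mp (H1 Y' t q)
    have e1 : q ≫ r = w := pullback.lift_snd _ _ _
    have e2 : q ≫ p = lift x y := pullback.lift_fst _ _ _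
    have e3 : q ≫ p ≫ fst O O = x := by rw [← Category.assoc, e2, lift_fst]
    have e4 : q ≫ p ≫ snd O O = y := by rw [← Category.assoc, e2, lift_snd]
    rw [e1, e3, e4] at h4
    exact h4
  · intro H1 T' x h
    rw [key]
    refine H1 _ _ _ _ _ ?_
    have h5 : p ≫ ((fst O O ≫ j) * (snd O O ≫ j)) = r ≫ j := pullback.condition
    rw [Category.assoc, ← h5, MonObj.comp_mul, MonObj.comp_mul]
    simp only [Category.assoc]

/-- The locus where `φ` extends to a family of homomorphisms is closed. -/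
theorem exists_closed_hom [IsSeparated H.hom] [LocallyOfFiniteType H.hom] {X : Over S} (φ : O ⊗ X ⟶ H) :
    ∃ (Z : Over S) (z : Z ⟶ X), IsClosedImmersion z.left ∧ LocallyOfFinitePresentation z.left ∧
      ∀ (Y : Over S) (a : Y ⟶ X), (∃ b : Y ⟶ Z, b ≫ z = a) ↔
        ∃ ψ : G ⊗ Y ⟶ H, AutFam.IsHomFamily G H ψ ∧ (j ▷ Y) ≫ ψ = (O ◁ a) ≫ φ := by
  obtain ⟨Z, z, h1, h2, h3⟩ := exists_closed_multOn j φ
  refine ⟨Z, z, h1, h2, fun Y a => ?_⟩
  rw [h3]
  constructor
  · intro h4
    exact exists_hom h4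
  · rintro ⟨ψ, hψ, h4⟩ Y' x y w t hw
    rw [← h4]
    have e : ∀ c : Y' ⟶ O, lift c t ≫ (j ▷ Y) ≫ ψ = lift (c ≫ j) t ≫ ψ := by
      intro c
      rw [← Category.assoc, lift_whiskerRight]
    rw [e, e, e, hw, hψ]

end

end K544.WeilClosed
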