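import Groth.Agent.AutFam.K544.GenPt
import Groth.Agent.Sga3.H774.FppfSheaf
import Groth.Prelude.Def_AutFam

/-!
# Extension of generically multiplicative families (Weil)

`G` is a smooth group scheme with geometrically irreducible fibres, `j : O ⟶ G` an open subscheme meeting all the
fibres and `φ : O ⊗ X ⟶ H` a family of morphisms into a group scheme with `φ(z, t) = φ(x, t) φ(y, t)` whenever
`x, y, z` are points of `O` with `z = x y` in `G`.

* `word`: the product of the images of a word in the points of `O` depends only on its value in `G`.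
* `exists_hom`: `φ` extends to a family of homomorphisms `G ⊗ X ⟶ H`.
* `hom_ext`: a family of homomorphisms is determined by its restriction to `O`.
-/

set_option autoImplicit false
open CategoryTheory MonoidalCategory CartesianMonoidalCategory MonObj GrpObj AlgebraicGeometry Limits
universe u

namespace K544.WeilExt

open K544.GenPt Groth.Agent.Sga3.H774.FppfSheaf

variable {S : Scheme.{u}} {G O H : Over S} [GrpObj G] [GrpObj H]

/-- `φ : O ⊗ X ⟶ H` is multiplicative wherever this makes sense. -/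
def MultOn (j : O ⟶ G) {X : Over S} (φ : O ⊗ X ⟶ H) : Prop :=
  ∀ (Y : Over S) (x y z : Y ⟶ O) (t : Y ⟶ X), z ≫ j = (x ≫ j) * (y ≫ j) →
    lift z t ≫ φ = (lift x t ≫ φ) * (lift y t ≫ φ)

/-- the value of a word in the points of `O` -/
noncomputable def wd (j : O ⟶ G) {Y : Over S} (l : List (Y ⟶ O)) : Y ⟶ G := (l.map (fun x => x ≫ j)).prod

/-- the image of a word in the points of `O` -/
noncomputable def im {X : Over S} (φ : O ⊗ X ⟶ H) {Y : Over S} (t : Y ⟶ X) (l : List (Y ⟶ O)) : Y ⟶ H :=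
  (l.map fun x => lift x t ≫ φ).prod

@[simp] lemma wd_nil (j : O ⟶ G) {Y : Over S} : wd j ([] : List (Y ⟶ O)) = 1 := rfl

@[simp] lemma wd_cons (j : O ⟶ G) {Y : Over S} (x : Y ⟶ O) (l : List (Y ⟶ O)) :
    wd j (x :: l) = (x ≫ j) * wd j l := by
  simp [wd]

@[simp] lemma im_nil {X : Over S} (φ : O ⊗ X ⟶ H) {Y : Over S} (t : Y ⟶ X) :
    im φ t ([] : List (Y ⟶ O)) = 1 := rfl

@[simp] lemma im_cons {X : Over S} (φ : O ⊗ X ⟶ H) {Y : Over S} (t : Y ⟶ X) (x : Y ⟶ O) (l : List (Y ⟶ O)) :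
    im φ t (x :: l) = (lift x t ≫ φ) * im φ t l := by
  simp [im]

lemma wd_append (j : O ⟶ G) {Y : Over S} (l l' : List (Y ⟶ O)) : wd j (l ++ l') = wd j l * wd j l' := by
  simp [wd]

lemma im_append {X : Over S} (φ : O ⊗ X ⟶ H) {Y : Over S} (t : Y ⟶ X) (l l' : List (Y ⟶ O)) :
    im φ t (l ++ l') = im φ t l * im φ t l' := by
  simp [im]

lemma comp_wd (j : O ⟶ G) {Y Y' : Over S} (v : Y' ⟶ Y) (l : List (Y ⟶ O)) :
    v ≫ wd j l = wd j (l.map (fun x => v ≫ x)) := by
  induction l with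
  | nil => exact MonObj.comp_one _
  | cons x l ih => rw [wd_cons, MonObj.comp_mul, ih, List.map_cons, wd_cons, Category.assoc]

lemma comp_im {X : Over S} (φ : O ⊗ X ⟶ H) {Y Y' : Over S} (v : Y' ⟶ Y) (t : Y ⟶ X) (l : List (Y ⟶ O)) :
    v ≫ im φ t l = im φ (v ≫ t) (l.map (fun x => v ≫ x)) := by
  induction l with
  | nil => exact MonObj.comp_one _
  | cons x l ih => rw [im_cons, MonObj.comp_mul, ih, List.map_cons, im_cons, ← Category.assoc, comp_lift]

lemma word_aux {j : O ⟶ G} {X : Over S} {φ : O ⊗ X ⟶ H} (hφ : MultOn j φ) {Y : Over S} (t : Y ⟶ X)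
    (l : List (Y ⟶ O)) : ∀ (z : Y ⟶ O), (∀ p, p <+: l → ∃ w : Y ⟶ O, w ≫ j = (z ≫ j) * wd j p) →
      ∃ w : Y ⟶ O, w ≫ j = (z ≫ j) * wd j l ∧ lift w t ≫ φ = (lift z t ≫ φ) * im φ t l := by
  induction l with
  | nil =>
    intro z _
    exact ⟨z, by simp, by simp⟩
  | cons x l ih =>
    intro z h
    obtain ⟨z', hz'⟩ := h [x] (by simp)
    rw [wd_cons, wd_nil, _root_.mul_one] at hz'
    have h1 := hφ Y z x z' t hz'
    obtain ⟨w, hw1, hw2⟩ := ih z' (fun p hp => by
      obtain ⟨w, hw⟩ := h (x :: p) ((List.prefix_cons_inj x).mpr hp)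
      exact ⟨w, by rw [hw, wd_cons, hz', _root_.mul_assoc]⟩)
    refine ⟨w, ?_, ?_⟩
    · rw [hw1, hz', wd_cons, _root_.mul_assoc]
    · rw [hw2, h1, im_cons, _root_.mul_assoc]

section

variable [Smooth G.hom] [GeometricallyIrreducible G.hom] (j : O ⟶ G)
  [IsOpenImmersion j.left] [Surjective O.hom] {X : Over S} {φ : O ⊗ X ⟶ H}

variable {j}

/-- **The word lemma.** -/
theorem word (hφ : MultOn j φ) {Y : Over S} (t : Y ⟶ X) (l l' : List (Y ⟶ O)) (h : wd j l = wd j l') :
    im φ t l = im φ t l' := by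
  obtain ⟨V, v, z, h1, h2, h3⟩ := exists_generic j
    (Sum.elim (fun k : Fin (l.length + 1) => wd j (l.take k)) (fun k : Fin (l'.length + 1) => wd j (l'.take k)))
  obtain ⟨z₀, hz₀⟩ := h3 (Sum.inl 0)
  simp only [Sum.elim_inl, Fin.val_zero, List.take_zero, wd_nil] at hz₀
  rw [MonObj.comp_one, _root_.mul_one] at hz₀
  have key : ∀ l'' : List (Y ⟶ O), (∀ k : Fin (l''.length + 1), ∃ w : V ⟶ O, w ≫ j = z * (v ≫ wd j (l''.take k))) →
      ∃ w : V ⟶ O, w ≫ j = z * (v ≫ wd j l'') ∧
        lift w (v ≫ t) ≫ φ = (lift z₀ (v ≫ t) ≫ φ) * (v ≫ im φ t l'') := by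
    intro l'' hl
    obtain ⟨w, hw1, hw2⟩ := word_aux hφ (v ≫ t) (l''.map (fun x => v ≫ x)) z₀ (fun p hp => by
      have hlen := hp.length_le
      rw [List.length_map] at hlen
      obtain ⟨w, hw⟩ := hl ⟨p.length, Nat.lt_succ_of_le hlen⟩
      refine ⟨w, ?_⟩
      rw [hw, hz₀, comp_wd]
      congr 2
      rw [List.map_take]
      exact (List.prefix_iff_eq_take.mp hp).symm)
    refine ⟨w, ?_, ?_⟩
    · rw [hw1, hz₀, comp_wd]
    · rw [hw2, comp_im]
  obtain ⟨w, hw1, hw2⟩ := key l (fun k => h3 (Sum.inl k))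
  obtain ⟨w', hw1', hw2'⟩ := key l' (fun k => h3 (Sum.inr k))
  have hj := mono_of_open j
  have hww : w = w' := by
    rw [← cancel_mono j, hw1, hw1', h]
  have hv := epi_of_cover v h1 h2
  rw [← cancel_epi v]
  rw [hww, hw2'] at hw2
  exact (mul_left_cancel hw2).symm

/-- A family of homomorphisms is determined by its restriction to `O`. -/
theorem hom_ext {ψ ψ' : G ⊗ X ⟶ H} (hψ : AutFam.IsHomFamily G H ψ) (hψ' : AutFam.IsHomFamily G H ψ')
    (h : (j ▷ X) ≫ ψ = (j ▷ X) ≫ ψ') : ψ = ψ' := by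
  obtain ⟨V, v, x, y, h1, h2, h3⟩ := exists_two j (fst G X)
  have hv := epi_of_cover v h1 h2
  rw [← cancel_epi v]
  have e : v = lift ((x ≫ j) * (y ≫ j)) (v ≫ snd G X) := by
    apply CartesianMonoidalCategory.hom_ext
    · rw [lift_fst, h3]
    · rw [lift_snd]
  have e2 : ∀ (ρ : G ⊗ X ⟶ H) (x : V ⟶ O), lift (x ≫ j) (v ≫ snd G X) ≫ ρ =
      lift x (v ≫ snd G X) ≫ (j ▷ X) ≫ ρ := by
    intro ρ x
    rw [← Category.assoc, lift_whiskerRight]
  rw [e, hψ, hψ', e2, e2, e2, e2, h]

/-- **Weil extension**: a generically multiplicative family extends to a family of homomorphisms. -/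
theorem exists_hom (hφ : MultOn j φ) :
    ∃ ψ : G ⊗ X ⟶ H, AutFam.IsHomFamily G H ψ ∧ (j ▷ X) ≫ ψ = φ := by
  obtain ⟨V, v, x, y, h1, h2, h3⟩ := exists_two j (𝟙 G)
  rw [Category.comp_id] at h3
  have hv : ∀ {Y : Over S} (g : Y ⟶ V) (t : Y ⟶ X),
      lift g t ≫ im φ (snd V X) [fst V X ≫ x, fst V X ≫ y] = im φ t [g ≫ x, g ≫ y] := by
    intro Y g t
    rw [comp_im]
    simp only [List.map_cons, List.map_nil, ← Category.assoc, lift_fst, lift_snd]
  have hc1 : Smooth (v ▷ X).left := by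
    have h5 : IsPullback (v ▷ X) (fst V X) (fst G X) v := by
      refine ⟨⟨whiskerRight_fst _ _⟩, ⟨PullbackCone.IsLimit.mk _
        (fun c => lift c.snd (c.fst ≫ snd G X)) (fun c => ?_) (fun c => lift_fst _ _) (fun c m h1 h2 => ?_)⟩⟩
      · rw [lift_whiskerRight]
        apply CartesianMonoidalCategory.hom_ext
        · rw [lift_fst, c.condition]
        · rw [lift_snd]
      · apply CartesianMonoidalCategory.hom_ext
        · rw [lift_fst, ← h2]
        · rw [lift_snd, ← h1, Category.assoc, whiskerRight_snd]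
    exact MorphismProperty.of_isPullback (P := @Smooth) (h5.map (Over.forget S)).flip h1
  have hc2 : Surjective (v ▷ X).left := by
    have h5 : IsPullback (v ▷ X) (fst V X) (fst G X) v := by
      refine ⟨⟨whiskerRight_fst _ _⟩, ⟨PullbackCone.IsLimit.mk _
        (fun c => lift c.snd (c.fst ≫ snd G X)) (fun c => ?_) (fun c => lift_fst _ _) (fun c m h1 h2 => ?_)⟩⟩
      · rw [lift_whiskerRight]
        apply CartesianMonoidalCategory.hom_ext
        · rw [lift_fst, c.condition]
        · rw [lift_snd]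
      · apply CartesianMonoidalCategory.hom_ext
        · rw [lift_fst, ← h2]
        · rw [lift_snd, ← h1, Category.assoc, whiskerRight_snd]
    exact MorphismProperty.of_isPullback (P := @Surjective) (h5.map (Over.forget S)).flip h2
  obtain ⟨ψ, hψ⟩ := exists_desc (v ▷ X) hc2 inferInstance inferInstance
    (im φ (snd V X) [fst V X ≫ x, fst V X ≫ y]) (fun R a b hab => by
      have ha : a = lift (a ≫ fst V X) (a ≫ snd V X) := by
        apply CartesianMonoidalCategory.hom_ext <;> simp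
      have hb : b = lift (b ≫ fst V X) (b ≫ snd V X) := by
        apply CartesianMonoidalCategory.hom_ext <;> simp
      have hab1 : (a ≫ fst V X) ≫ v = (b ≫ fst V X) ≫ v := by
        have := congrArg (· ≫ fst G X) hab
        simpa only [Category.assoc, whiskerRight_fst] using this
      have hab2 : a ≫ snd V X = b ≫ snd V X := by
        have := congrArg (· ≫ snd G X) hab
        simpa only [Category.assoc, whiskerRight_snd] using this
      rw [ha, hb, hv, hv, ← hab2]
      refine word hφ _ _ _ ?_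
      simp only [wd_cons, wd_nil, _root_.mul_one]
      have e : ∀ c : R ⟶ V, ((c ≫ x) ≫ j) * ((c ≫ y) ≫ j) = c ≫ v := by
        intro c
        rw [← h3, MonObj.comp_mul, Category.assoc, Category.assoc]
      rw [e, e, hab1])
  -- the value of `ψ` on words
  have key : ∀ {Y : Over S} (t : Y ⟶ X) (l : List (Y ⟶ O)), lift (wd j l) t ≫ ψ = im φ t l := by
    intro Y t l
    obtain ⟨Y', p, q, hp1, hp2, hpq⟩ := exists_pullback v h1 h2 (wd j l)
    have hp := epi_of_cover p hp1 hp2
    rw [← cancel_epi p, ← Category.assoc, comp_lift, hpq, ← lift_whiskerRight, Category.assoc, hψ, hv, comp_im]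
    refine word hφ _ _ _ ?_
    rw [← comp_wd, hpq, ← h3]
    simp only [wd_cons, wd_nil, _root_.mul_one]
    rw [MonObj.comp_mul, Category.assoc, Category.assoc]
  refine ⟨ψ, ?_, ?_⟩
  · intro Y g₁ g₂ t
    obtain ⟨Y', p, x₁, y₁, hp1, hp2, hg₁⟩ := exists_two j g₁
    obtain ⟨Y'', p', x₂, y₂, hp1', hp2', hg₂⟩ := exists_two j (p ≫ g₂)
    have hp := epi_of_cover p hp1 hp2
    have hp' := epi_of_cover p' hp1' hp2'
    rw [← cancel_epi p, ← cancel_epi p']
    have e1 : p' ≫ p ≫ g₁ = wd j [p' ≫ x₁, p' ≫ y₁] := by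
      simp only [wd_cons, wd_nil, _root_.mul_one]
      rw [← hg₁, MonObj.comp_mul, Category.assoc, Category.assoc]
    have e2 : p' ≫ p ≫ g₂ = wd j [x₂, y₂] := by
      simp only [wd_cons, wd_nil, _root_.mul_one]
      exact hg₂.symm
    rw [← Category.assoc p, ← Category.assoc p', comp_lift, comp_lift, MonObj.comp_mul, MonObj.comp_mul,
      MonObj.comp_mul, MonObj.comp_mul, ← Category.assoc p (lift g₁ t), ← Category.assoc p' (p ≫ lift g₁ t),
      ← Category.assoc p (lift g₂ t), ← Category.assoc p' (p ≫ lift g₂ t), comp_lift, comp_lift, comp_lift,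
      comp_lift, e1, e2, ← wd_append, key, key, key, im_append]
  · have h4 := key (snd O X) [fst O X]
    simp only [wd_cons, wd_nil, _root_.mul_one, im_cons, im_nil] at h4
    have e1 : lift (fst O X ≫ j) (snd O X) = j ▷ X := by
      apply CartesianMonoidalCategory.hom_ext <;> simp
    have e2 : lift (fst O X) (snd O X) = 𝟙 (O ⊗ X) := by
      apply CartesianMonoidalCategory.hom_ext <;> simp
    rwa [e1, e2, Category.id_comp] at h4

end

end K544.WeilExt
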